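import Cfsg.Agent.Mrg.Omega.OM.Uni
import Cfsg.Agent.Mrg.Omega.OM.Swap.Plug

-- merged: Cfsg.Agent.Mrg.Omega.OM.Swap.ModFacts
section

/-!
# THEOREM SW (#18741): module facts over the frame `Fr`, `q = 2`

* `act` (m1): `b ∈ B` acts on `W i` trivially or by the transvection with centre `z i`;
* `hat` (m2): an elementary abelian `X ≤ B` of maximal order which moves `W i` contains an element which moves `W i`
  and centralises all `W j`, `j ≠ i`;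
* `conj_ZJ` (m3): every element of `∏_{i ∈ r} W i` is conjugate under `⟨L i : i ∈ r⟩` to an element of `∏_{i ∈ r} Z i`.
-/

set_option autoImplicit false
set_option linter.unusedSectionVars false

namespace Cfsg.Agent.Omega.OM.Swap

open Subgroup Cfsg Cfsg.Agent.PLocal.ThompsonJ Cfsg.Agent.ZN Cfsg.Agent.ZN.ChoiceBase
open Cfsg.Agent.PLocal.ElemAbSup
open Cfsg.Agent.Omega.SQ1.Bau (mem_sup_comm card_sup_comm elem_comm elem_sq)
open Cfsg.Agent.Omega.OM.BlockUniq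
open Cfsg.Agent.Omega.OM.Uni
open scoped Pointwise commutatorElement

universe u

variable {G : Type u} [Group G]

section fr

variable {ι : Type*} {B Q V ZJ : Subgroup G} {L W Z C A : ι → Subgroup G} {m : ℕ}
  (h : Fr B Q V ZJ L W Z C A 2 m)
include h

theorem Z_inf {i j : ι} (hij : i ≠ j) {x : G} (hi : x ∈ Z i) (hj : x ∈ Z j) : x = 1 := by
  have h1 : x ∈ W i ⊓ C i := mem_inf.2 ⟨(h.blk i).ZV hi, h.WjC i j hij ((h.blk j).ZV hj)⟩
  rwa [h.dir i, mem_bot] at h1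

theorem WW_comm {i j : ι} {x y : G} (hx : x ∈ W i) (hy : y ∈ W j) : x * y = y * x :=
  h.Vc (h.WV i hx) (h.WV j hy)

theorem two_Z [Finite G] {i : ι} {z x : G} (hz : z ∈ Z i) (hz1 : z ≠ 1) (hx : x ∈ Z i) : x = 1 ∨ x = z := by
  have hc := h.cardZ i
  by_contra hne
  push Not at hne
  have h1 : 3 ≤ Nat.card (Z i) := by
    have h2 : ({1, z, x} : Set G) ⊆ (Z i : Set G) := by
      rintro y (rfl | rfl | rfl)
      · exact one_mem _
      · exact hz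
      · exact hx
    have h3 := Set.ncard_le_ncard h2 (Set.toFinite _)
    have h4 : ({1, z, x} : Set G).ncard = 3 := by
      rw [Set.ncard_eq_three]
      exact ⟨1, z, x, Ne.symm hz1, Ne.symm hne.1, Ne.symm hne.2, rfl⟩
    rw [h4] at h3
    exact h3
  omega

/-- **(m1)** -/
theorem act [Finite G] {i : ι} {z : G} (hz : z ∈ Z i) (hz1 : z ≠ 1) {b : G} (hb : b ∈ B) {x : G} (hx : x ∈ W i) :
    b * x * b⁻¹ = x ∨ b * x * b⁻¹ = x * z := by
  have h1 := (h.blk i).com b hb x hx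
  rcases two_Z h hz hz1 h1 with h2 | h2
  · left; exact mul_inv_eq_one.1 h2
  · right
    have h3 : b * x * b⁻¹ = z * x := mul_inv_eq_iff_eq_mul.1 h2
    rw [h3]
    exact WW_comm h ((h.blk i).ZV hz) hx

/-- an elementary abelian subgroup `X ≤ B` of maximal order, `X_j = C_X(W j)` -/
theorem swap_mem [Finite G] {X : Subgroup G} (hX : X ≤ B) (hXe : IsElementaryAbelian 2 X)
    (hXm : Nat.card X = m) {j : ι} (hj : ∃ a ∈ X, ∃ w ∈ W j, a * w ≠ w * a) :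
    IsElementaryAbelian 2 ((X ⊓ centralizer (W j : Set G)) ⊔ W j : Subgroup G) ∧
      Nat.card ((X ⊓ centralizer (W j : Set G)) ⊔ W j : Subgroup G) = m := by
  have hcomm : ∀ x ∈ X ⊓ centralizer (W j : Set G), ∀ w ∈ W j, x * w = w * x := fun x hx w hw =>
    (mem_centralizer_iff.1 (mem_inf.1 hx).2 w hw).symm
  have hE := isElementaryAbelian_sup (isElementaryAbelian_mono hXe inf_le_left) (h.blk j).el
    (elem_le_centralizer hcomm)
  refine ⟨hE, le_antisymm (h.max _ hE) ?_⟩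
  obtain ⟨a, ha, w, hw, hne⟩ := hj
  rcases (h.blk j).full h.max hX hXe hXm with h1 | ⟨-, h2, h3, -⟩
  · exact absurd (h1 a ha w hw) hne
  have h4 := card_sup_comm hcomm
  have h5 : Nat.card ↥((X ⊓ centralizer (W j : Set G)) ⊓ W j : Subgroup G) ≤ 2 := by
    rw [← h.cardZ j]
    refine Subgroup.card_le_of_le ?_
    intro u hu
    obtain ⟨hu1, hu2⟩ := mem_inf.1 hu
    rw [← h2]
    exact mem_inf.2 ⟨hu2, mem_centralizer_iff.2 fun x hx => elem_comm hXe x hx u (mem_inf.1 hu1).1⟩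
  have h6 : Nat.card (W j) = 4 := by rw [(h.blk j).card, h.cardZ j]
  rw [h6] at h4
  have h7 := Nat.mul_le_mul_left (Nat.card ↥((X ⊓ centralizer (W j : Set G)) ⊔ W j : Subgroup G)) h5
  rw [hXm] at h3
  omega

/-- LEMMA A: `X_j` moves `W i` -/
theorem swap_mov [Finite G] {X : Subgroup G} (hX : X ≤ B) (hXe : IsElementaryAbelian 2 X)
    (hXm : Nat.card X = m) {i j : ι} (hij : i ≠ j) (hi : ∃ a ∈ X, ∃ w ∈ W i, a * w ≠ w * a)
    (hj : ∃ a ∈ X, ∃ w ∈ W j, a * w ≠ w * a) :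
    ∃ a ∈ X ⊓ centralizer (W j : Set G), ∃ w ∈ W i, a * w ≠ w * a := by
  by_contra hcon
  push Not at hcon
  obtain ⟨hE, hEm⟩ := swap_mem h hX hXe hXm hj
  have hcomm : ∀ x ∈ X ⊓ centralizer (W j : Set G), ∀ w ∈ W j, x * w = w * x := fun x hx w hw =>
    (mem_centralizer_iff.1 (mem_inf.1 hx).2 w hw).symm
  obtain ⟨a, ha, w, hw, hne⟩ := hi
  apply hne
  -- `w ∈ X_j W j`
  have h1 : w ∈ (X ⊓ centralizer (W j : Set G)) ⊔ W j := by
    refine mem_of_max h.max hE hEm (elem_sq (h.blk i).el w hw) fun e he => ?_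
    obtain ⟨x, hx, u, hu, rfl⟩ := mem_sup_comm hcomm he
    have c1 : Commute x w := hcon x hx w hw
    have c2 : Commute u w := WW_comm h hu hw
    exact (c1.mul_left c2).eq
  obtain ⟨x, hx, u, hu, e⟩ := mem_sup_comm hcomm h1
  have h2 := (h.blk i).com a (hX ha) w hw
  have h3 := (h.blk j).com a (hX ha) u hu
  have hax := elem_comm hXe a ha x (mem_inf.1 hx).1
  have hxz := (h.blk j).cZ x (hX (mem_inf.1 hx).1) _ h3
  have e1 : a * w * a⁻¹ * w⁻¹ = a * u * a⁻¹ * u⁻¹ := by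
    calc a * w * a⁻¹ * w⁻¹ = (a * x) * u * a⁻¹ * u⁻¹ * x⁻¹ := by rw [e]; group
      _ = x * (a * u * a⁻¹ * u⁻¹) * x⁻¹ := by rw [hax]; group
      _ = a * u * a⁻¹ * u⁻¹ := by rw [hxz, mul_inv_cancel_right]
  have h4 := Z_inf h hij h2 (by rw [e1]; exact h3)
  exact mul_inv_eq_iff_eq_mul.1 (mul_inv_eq_one.1 h4)

theorem hat_aux [Finite G] [Finite ι] (n : ℕ) : ∀ X : Subgroup G, X ≤ B → IsElementaryAbelian 2 X →
    Nat.card X = m → ∀ i, {j | ∃ a ∈ X, ∃ w ∈ W j, a * w ≠ w * a}.ncard ≤ n →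
    (∃ a ∈ X, ∃ w ∈ W i, a * w ≠ w * a) →
    ∃ a ∈ X, (∃ w ∈ W i, a * w ≠ w * a) ∧ ∀ j, j ≠ i → ∀ w ∈ W j, a * w = w * a := by
  induction n with
  | zero =>
    intro X _ _ _ i hn hi
    exfalso
    have h1 : {j | ∃ a ∈ X, ∃ w ∈ W j, a * w ≠ w * a} = ∅ :=
      (Set.ncard_eq_zero (Set.toFinite _)).1 (Nat.le_zero.1 hn)
    have h2 : i ∈ {j | ∃ a ∈ X, ∃ w ∈ W j, a * w ≠ w * a} := hi
    rw [h1] at h2
    exact h2
  | succ n ih =>
    intro X hX hXe hXm i hn hi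
    by_cases hj : ∃ j, j ≠ i ∧ ∃ a ∈ X, ∃ w ∈ W j, a * w ≠ w * a
    · obtain ⟨j, hji, hj⟩ := hj
      obtain ⟨hE, hEm⟩ := swap_mem h hX hXe hXm hj
      have hcomm : ∀ x ∈ X ⊓ centralizer (W j : Set G), ∀ w ∈ W j, x * w = w * x := fun x hx w hw =>
        (mem_centralizer_iff.1 (mem_inf.1 hx).2 w hw).symm
      have hEB : (X ⊓ centralizer (W j : Set G)) ⊔ W j ≤ B := sup_le (inf_le_left.trans hX) (h.blk j).VB
      -- an element `x u`, `x ∈ X_j`, `u ∈ W j`, moves what `x` moves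
      have hmv : ∀ (l : ι) (x u w : G), u ∈ W j → w ∈ W l → ((x * u) * w = w * (x * u) ↔ x * w = w * x) := by
        intro l x u w hu hw
        have h1 := WW_comm h hu hw
        constructor
        · intro h2
          have h3 : x * w * u = w * x * u := by
            calc x * w * u = x * (w * u) := by group
              _ = x * (u * w) := by rw [h1]
              _ = x * u * w := by group
              _ = w * (x * u) := h2
              _ = w * x * u := by group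
          exact mul_right_cancel h3
        · intro h2
          calc x * u * w = x * (u * w) := by group
            _ = x * w * u := by rw [h1]; group
            _ = w * (x * u) := by rw [h2]; group
      have hsub : {l | ∃ a ∈ (X ⊓ centralizer (W j : Set G)) ⊔ W j, ∃ w ∈ W l, a * w ≠ w * a} ⊂
          {l | ∃ a ∈ X, ∃ w ∈ W l, a * w ≠ w * a} := by
        refine ⟨?_, fun hc => ?_⟩
        · rintro l ⟨a, ha, w, hw, hne⟩
          obtain ⟨x, hx, u, hu, rfl⟩ := mem_sup_comm hcomm ha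
          exact ⟨x, (mem_inf.1 hx).1, w, hw, fun h2 => hne ((hmv l x u w hu hw).2 h2)⟩
        · obtain ⟨a, ha, w, hw, hne⟩ := hc (show j ∈ _ from hj)
          obtain ⟨x, hx, u, hu, rfl⟩ := mem_sup_comm hcomm ha
          exact hne ((hmv j x u w hu hw).2 (hcomm x hx w hw))
      have hlt := Set.ncard_lt_ncard hsub (Set.toFinite _)
      obtain ⟨a₀, ha₀, w₀, hw₀, hne₀⟩ := swap_mov h hX hXe hXm (Ne.symm hji) hi hj
      obtain ⟨a, ha, ⟨w, hw, hne⟩, hcen⟩ := ih _ hEB hE hEm i (by omega)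
        ⟨a₀, mem_sup_left ha₀, w₀, hw₀, hne₀⟩
      obtain ⟨x, hx, u, hu, rfl⟩ := mem_sup_comm hcomm ha
      refine ⟨x, (mem_inf.1 hx).1, ⟨w, hw, fun h2 => hne ((hmv i x u w hu hw).2 h2)⟩, fun l hl w hw => ?_⟩
      exact (hmv l x u w hu hw).1 (hcen l hl w hw)
    · push Not at hj
      obtain ⟨a, ha, hw⟩ := hi
      exact ⟨a, ha, hw, fun l hl w hw => hj l hl a ha w hw⟩

/-- **(m2)** -/
theorem hat [Finite G] [Finite ι] {X : Subgroup G} (hX : X ≤ B) (hXe : IsElementaryAbelian 2 X)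
    (hXm : Nat.card X = m) {i : ι} (hi : ∃ a ∈ X, ∃ w ∈ W i, a * w ≠ w * a) :
    ∃ a ∈ X, (∃ w ∈ W i, a * w ≠ w * a) ∧ ∀ j, j ≠ i → ∀ w ∈ W j, a * w = w * a :=
  hat_aux h _ X hX hXe hXm i le_rfl hi

/-! ### (m3) -/

/-- `[V, B] ≤ ZJ` -/
theorem comm_B [Finite ι] {b v : G} (hb : b ∈ B) (hv : v ∈ V) : b * v * b⁻¹ * v⁻¹ ∈ ZJ := by
  -- the elements of `V` with this property
  let T : Subgroup G :=
    { carrier := {v | v ∈ V ∧ b * v * b⁻¹ * v⁻¹ ∈ ZJ}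
      one_mem' := ⟨one_mem _, by simp⟩
      mul_mem' := by
        rintro x y ⟨hx, hx'⟩ ⟨hy, hy'⟩
        refine ⟨mul_mem hx hy, ?_⟩
        have h1 := h.Vc hx (h.ZJV hy')
        have e : b * (x * y) * b⁻¹ * (x * y)⁻¹ = b * x * b⁻¹ * (b * y * b⁻¹ * y⁻¹) * x⁻¹ := by group
        have e2 : b * x * b⁻¹ * (b * y * b⁻¹ * y⁻¹) * x⁻¹ = (b * x * b⁻¹ * x⁻¹) * (b * y * b⁻¹ * y⁻¹) := by
          calc b * x * b⁻¹ * (b * y * b⁻¹ * y⁻¹) * x⁻¹ =
                b * x * b⁻¹ * x⁻¹ * (x * (b * y * b⁻¹ * y⁻¹)) * x⁻¹ := by group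
            _ = b * x * b⁻¹ * x⁻¹ * (b * y * b⁻¹ * y⁻¹) := by rw [h1]; group
        rw [e, e2]
        exact mul_mem hx' hy'
      inv_mem' := by
        rintro x ⟨hx, hx'⟩
        refine ⟨inv_mem hx, ?_⟩
        have h1 := h.Vc hx (h.ZJV hx')
        have e2 : b * x⁻¹ * b⁻¹ * x⁻¹⁻¹ = (b * x * b⁻¹ * x⁻¹)⁻¹ := by
          have e3 : b * x⁻¹ * b⁻¹ * x⁻¹⁻¹ = x⁻¹ * (b * x * b⁻¹ * x⁻¹)⁻¹ * x := by group
          have h2 := h.Vc (inv_mem (h.ZJV hx')) hx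
          rw [e3, mul_assoc, h2]; group
        rw [e2]
        exact inv_mem hx' }
  have hT : V ≤ T := by
    conv_lhs => rw [h.V_eq]
    refine iSup_le fun i w hw => ⟨h.WV i hw, h.Z_le i ((h.blk i).com b hb w hw)⟩
  exact (hT hv).2

/-- `L i` normalises `W i * ZJ` -/
theorem nE {i : ι} {l : G} (hl : l ∈ L i) {e : G} (he : e ∈ W i ⊔ ZJ) : l * e * l⁻¹ ∈ W i ⊔ ZJ := by
  obtain ⟨v, hv, z, hz, rfl⟩ := mem_sup_comm (fun v hv z hz => h.Vc (h.WV i hv) (h.ZJV hz)) he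
  have hz' : z ∈ zc B := by rw [h.zcB]; exact hz
  have e1 : l * (v * z) * l⁻¹ = (l * v * l⁻¹) * (l * z * l⁻¹ * z⁻¹) * z := by group
  rw [e1]
  exact mul_mem (mem_sup_left (mul_mem ((h.blk i).nV l hl v hv) ((h.blk i).act l hl z hz'))) (mem_sup_right hz)

/-- a subgroup `N` of `V` normalised by `L i` with `[U, B ^ x] ≤ N`, `x ∈ L i`: `[U, L i] ≤ N` -/
theorem comm_gen {i : ι} {N U : Subgroup G} (hN : ∀ l ∈ L i, ∀ n ∈ N, l * n * l⁻¹ ∈ N)
    (hB : ∀ x ∈ L i, ∀ b ∈ cj x B, ∀ u ∈ U, b * u * b⁻¹ * u⁻¹ ∈ N) {l : G} (hl : l ∈ L i) {u : G} (hu : u ∈ U) :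
    l * u * l⁻¹ * u⁻¹ ∈ N := by
  let T : Subgroup G :=
    { carrier := {l | l ∈ L i ∧ ∀ u ∈ U, l * u * l⁻¹ * u⁻¹ ∈ N}
      one_mem' := ⟨one_mem _, fun u _ => by simp⟩
      mul_mem' := by
        rintro x y ⟨hx, hx'⟩ ⟨hy, hy'⟩
        refine ⟨mul_mem hx hy, fun u hu => ?_⟩
        have e : x * y * u * (x * y)⁻¹ * u⁻¹ = (x * (y * u * y⁻¹ * u⁻¹) * x⁻¹) * (x * u * x⁻¹ * u⁻¹) := by group
        rw [e]
        exact mul_mem (hN x hx _ (hy' u hu)) (hx' u hu)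
      inv_mem' := by
        rintro x ⟨hx, hx'⟩
        refine ⟨inv_mem hx, fun u hu => ?_⟩
        have e : x⁻¹ * u * x⁻¹⁻¹ * u⁻¹ = x⁻¹ * (x * u * x⁻¹ * u⁻¹)⁻¹ * x⁻¹⁻¹ := by group
        rw [e]
        exact hN x⁻¹ (inv_mem hx) _ (inv_mem (hx' u hu)) }
  have hT : L i ≤ T := by
    refine (h.blk i).gen.trans (iSup_le fun x b hb => ⟨?_, hB x x.2 b hb⟩)
    obtain ⟨b', hb', rfl⟩ := hb
    exact mul_mem (mul_mem x.2 ((h.blk i).BL hb')) (inv_mem x.2)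
  exact (hT hl).2 u hu

/-- `[V, L i] ≤ W i * ZJ` -/
theorem comm_L [Finite ι] {i : ι} {l v : G} (hl : l ∈ L i) (hv : v ∈ V) : l * v * l⁻¹ * v⁻¹ ∈ W i ⊔ ZJ := by
  refine comm_gen h (fun l hl n hn => nE h hl hn) (fun x hx b hb u hu => ?_) hl hv
  rw [mem_cj] at hb
  have h1 := h.LV i x⁻¹ (inv_mem hx) u hu
  rw [inv_inv] at h1
  have h2 := nE h hx (mem_sup_right (comm_B h hb h1))
  have e : x * ((x⁻¹ * b * x) * (x⁻¹ * u * x) * (x⁻¹ * b * x)⁻¹ * (x⁻¹ * u * x)⁻¹) * x⁻¹ = b * u * b⁻¹ * u⁻¹ := by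
    group
  rwa [e] at h2

/-- `[W j, L i] ≤ W i * Z j`, `i ≠ j` -/
theorem comm_W [Finite ι] {i j : ι} (hij : i ≠ j) {l w : G} (hl : l ∈ L i) (hw : w ∈ W j) :
    l * w * l⁻¹ * w⁻¹ ∈ W i ⊔ Z j := by
  have hzc : ∀ l ∈ L i, ∀ z ∈ Z j, l * z = z * l := fun l hl z hz =>
    h.LC i l hl z (h.Z_le j hz) (h.WjC i j hij ((h.blk j).ZV hz))
  have hN : ∀ l ∈ L i, ∀ n ∈ W i ⊔ Z j, l * n * l⁻¹ ∈ W i ⊔ Z j := by
    intro l hl n hn
    obtain ⟨v, hv, z, hz, rfl⟩ := mem_sup_comm (fun v hv z hz => h.Vc (h.WV i hv) (h.ZV j hz)) hn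
    have e1 : l * (v * z) * l⁻¹ = (l * v * l⁻¹) * (l * z * l⁻¹) := by group
    rw [e1, hzc l hl z hz, mul_inv_cancel_right]
    exact mul_mem (mem_sup_left ((h.blk i).nV l hl v hv)) (mem_sup_right hz)
  refine comm_gen h hN (fun x hx b hb u hu => ?_) hl hw
  rw [mem_cj] at hb
  -- `x⁻¹ u x = u y`, `y ∈ W i * ZJ`
  have h1 := comm_L h (inv_mem hx) (h.WV j hu)
  rw [inv_inv] at h1
  obtain ⟨y, hy, t, ht, e⟩ := mem_sup_comm (fun v hv z hz => h.Vc (h.WV i hv) (h.ZJV hz)) h1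
  have e0 : x⁻¹ * u * x = y * t * u := by
    rw [← e]; group
  obtain ⟨c, hc⟩ : ∃ c, c = x⁻¹ * b * x := ⟨_, rfl⟩
  rw [← hc] at hb
  have h2 := (h.blk i).com c hb y hy
  have h3 := (h.blk j).com c hb u hu
  have h4 := ((h.mem_ZJ t).1 ht).2 c hb
  have hy' := h.WV i hy
  have ht' := h.ZJV ht
  have hu' := h.WV j hu
  have e2 : c * (x⁻¹ * u * x) * c⁻¹ * (x⁻¹ * u * x)⁻¹ = (c * y * c⁻¹ * y⁻¹) * (c * u * c⁻¹ * u⁻¹) := by
    rw [e0]
    have k1 : y * (t * (c * u * c⁻¹ * u⁻¹) * t⁻¹) = (c * u * c⁻¹ * u⁻¹) * y := by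
      have k2 := h.Vc ht' (h.ZV j h3)
      have k3 := h.Vc hy' (h.ZV j h3)
      rw [k2, mul_inv_cancel_right, k3]
    calc c * (y * t * u) * c⁻¹ * (y * t * u)⁻¹
        = (c * y * c⁻¹) * (c * t) * c⁻¹ * (c * u * c⁻¹ * u⁻¹) * t⁻¹ * y⁻¹ := by group
      _ = (c * y * c⁻¹ * y⁻¹) * (y * (t * (c * u * c⁻¹ * u⁻¹) * t⁻¹)) * y⁻¹ := by rw [h4]; group
      _ = _ := by rw [k1]; group
  have h5 := hN x hx _ (mul_mem (mem_sup_left ((h.blk i).ZV h2)) (mem_sup_right h3))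
  rw [← e2, hc] at h5
  have e3 : x * ((x⁻¹ * b * x) * (x⁻¹ * u * x) * (x⁻¹ * b * x)⁻¹ * (x⁻¹ * u * x)⁻¹) * x⁻¹ = b * u * b⁻¹ * u⁻¹ := by
    group
  rwa [e3] at h5

/-- `⟨W j : j ∈ r⟩` is invariant under `L i`, `i ∈ r` -/
theorem nWr [Finite ι] {r : Set ι} {i : ι} (hi : i ∈ r) {l : G} (hl : l ∈ L i) {x : G} (hx : x ∈ ⨆ j ∈ r, W j) :
    l * x * l⁻¹ ∈ ⨆ j ∈ r, W j := by
  have h1 : (⨆ j ∈ r, W j) ≤ (⨆ j ∈ r, W j).comap (MulAut.conj l).toMonoidHom := by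
    refine iSup₂_le fun j hj w hw => ?_
    show l * w * l⁻¹ ∈ ⨆ j ∈ r, W j
    have hWj : W j ≤ ⨆ j ∈ r, W j := le_iSup₂_of_le j hj le_rfl
    have hWi : W i ≤ ⨆ j ∈ r, W j := le_iSup₂_of_le i hi le_rfl
    by_cases hij : i = j
    · subst hij
      exact hWi ((h.blk i).nV l hl w hw)
    · have h2 := comm_W h hij hl hw
      have h3 : l * w * l⁻¹ * w⁻¹ ∈ ⨆ j ∈ r, W j := (sup_le hWi ((h.blk j).ZV.trans hWj)) h2
      have h4 := mul_mem h3 (hWj hw)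
      rwa [inv_mul_cancel_right] at h4
  exact h1 hx

/-- one step: an `L i`-conjugate of `v` is centralised by `A i` -/
theorem step [Finite G] (i : ι) {v : G} (hv : v ∈ V) :
    ∃ l ∈ L i, ∀ a ∈ A i, a * (l * v * l⁻¹) = l * v * l⁻¹ * a := by
  by_cases h0 : ∀ a ∈ A i, a * v = v * a
  · exact ⟨1, one_mem _, fun a ha => by simpa using h0 a ha⟩
  push Not at h0
  obtain ⟨a, ha, hav⟩ := h0
  obtain ⟨l, hl, hne⟩ := h.exists_mv i
  have haL : a ∈ L i := (h.blk i).BL (h.AB i ha)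
  -- `H' = C_V(A i ^ l)`
  obtain ⟨H, hH⟩ : ∃ H, H = V ⊓ centralizer (A i : Set G) := ⟨_, rfl⟩
  have hHc : Nat.card V = Nat.card H * 2 := by rw [hH]; exact h.card_CVA i
  have hmem : ∀ u, u ∈ cj l H → ∀ a ∈ A i, a * (l⁻¹ * u * l) = l⁻¹ * u * l * a := by
    intro u hu a ha
    rw [mem_cj, hH] at hu
    exact mem_centralizer_iff.1 (mem_inf.1 hu).2 a ha
  have hHV : cj l H ≤ V := by
    rw [← h.cj_V hl]
    exact cj_mono l (by rw [hH]; exact inf_le_left)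
  have hidx : ((cj l H).subgroupOf V).index = 2 := by
    have h1 : Nat.card (cj l H : Subgroup G) * (cj l H).relIndex V = Nat.card V := by
      rw [← relIndex_bot_left, ← relIndex_bot_left V]
      exact relIndex_mul_relIndex _ _ _ bot_le hHV
    rw [card_cj, hHc] at h1
    exact Nat.eq_of_mul_eq_mul_left Nat.card_pos h1
  by_cases h1 : v ∈ cj l H
  · refine ⟨l⁻¹, inv_mem hl, fun a ha => ?_⟩
    have := hmem v h1 a ha
    rwa [inv_inv]
  · have h2 := h.A_comm ha hv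
    have h3 : a * v * a⁻¹ * v⁻¹ ≠ 1 := fun e => hav (mul_inv_eq_iff_eq_mul.1 (mul_inv_eq_one.1 e))
    have hzV := h.ZV i h2
    have h4 : a * v * a⁻¹ * v⁻¹ ∉ cj l H := by
      intro hc
      apply h3
      have h5 := hmem _ hc
      have h6 : l⁻¹ * (a * v * a⁻¹ * v⁻¹) * l ∈ Z i := by
        rw [← (h.A_full i).2.1]
        exact mem_inf.2 ⟨(h.blk i).nV' hl ((h.blk i).ZV h2), mem_centralizer_iff.2 h5⟩
      have h7 : a * v * a⁻¹ * v⁻¹ ∈ cj l (Z i) ⊓ Z i := mem_inf.2 ⟨mem_cj.2 h6, h2⟩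
      rwa [h.tri' hl hne, mem_bot] at h7
    -- so `v ^ a ∈ H'`
    have h5 : a * v * a⁻¹ ∈ cj l H := by
      have h6 : (⟨a * v * a⁻¹ * v⁻¹, hzV⟩ : V) * ⟨v, hv⟩ ∈ (cj l H).subgroupOf V := by
        rw [Subgroup.mul_mem_iff_of_index_two hidx]
        constructor
        · intro h7
          exact absurd (mem_subgroupOf.1 h7) h4
        · intro h7
          exact absurd (mem_subgroupOf.1 h7) h1
      have h7 := mem_subgroupOf.1 h6
      have e : (((⟨a * v * a⁻¹ * v⁻¹, hzV⟩ : V) * ⟨v, hv⟩ : V) : G) = a * v * a⁻¹ := by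
        show a * v * a⁻¹ * v⁻¹ * v = a * v * a⁻¹
        group
      rwa [e] at h7
    refine ⟨l⁻¹ * a, mul_mem (inv_mem hl) haL, fun a' ha' => ?_⟩
    have h6 := hmem _ h5 a' ha'
    have e : l⁻¹ * a * v * (l⁻¹ * a)⁻¹ = l⁻¹ * (a * v * a⁻¹) * l := by group
    rw [e]; exact h6

/-- `A j` centralises `W i * ZJ`, so it centralises `v` iff it centralises `v ^ l`, `l ∈ L i` -/
theorem keep [Finite ι] {i j : ι} (hij : i ≠ j) {l v : G} (hl : l ∈ L i) (hv : v ∈ V)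
    (hj : ∀ a ∈ A j, a * v = v * a) : ∀ a ∈ A j, a * (l * v * l⁻¹) = l * v * l⁻¹ * a := by
  intro a ha
  obtain ⟨w, hw, z, hz, e⟩ := mem_sup_comm (fun v hv z hz => h.Vc (h.WV i hv) (h.ZJV hz)) (comm_L h hl hv)
  have e1 : l * v * l⁻¹ = w * z * v := by rw [← e]; group
  have c1 : Commute a w := h.AC j a ha w (h.WjC j i (Ne.symm hij) hw)
  have c2 : Commute a z := ((h.mem_ZJ z).1 hz).2 a (h.AB j ha)
  have c3 : Commute a v := hj a ha
  rw [e1]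
  exact ((c1.mul_right c2).mul_right c3).eq

/-- a `⟨L i : i ∈ r⟩`-conjugate of `x ∈ ⟨W i : i ∈ r⟩` lies in `ZJ` -/
theorem conj_aux [Finite G] [Finite ι] (r : Set ι) {x : G} (hx : x ∈ ⨆ i ∈ r, W i) : ∀ s : Finset ι, (∀ i ∈ s, i ∈ r) →
    ∃ g ∈ ⨆ i ∈ r, L i, g * x * g⁻¹ ∈ ⨆ i ∈ r, W i ∧ ∀ i, (i ∈ s ∨ i ∉ r) →
      ∀ a ∈ A i, a * (g * x * g⁻¹) = g * x * g⁻¹ * a := by
  classical
  have hWV : (⨆ i ∈ r, W i) ≤ V := iSup₂_le fun i _ => h.WV i
  intro s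
  induction s using Finset.induction_on with
  | empty =>
    intro _
    refine ⟨1, one_mem _, by simpa using hx, fun i hi a ha => ?_⟩
    rcases hi with hi | hi
    · exact absurd hi (Finset.notMem_empty i)
    have h1 : (⨆ j ∈ r, W j) ≤ C i := iSup₂_le fun j hj => h.WjC i j (fun e => hi (e ▸ hj))
    have := h.AC i a ha x (h1 hx)
    simpa using this
  | insert i s hi ih =>
    intro hs
    obtain ⟨g, hg, hgW, hgA⟩ := ih fun j hj => hs j (Finset.mem_insert_of_mem hj)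
    have hir : i ∈ r := hs i (Finset.mem_insert_self i s)
    obtain ⟨l, hl, hlA⟩ := step h i (hWV hgW)
    have hLr : L i ≤ ⨆ i ∈ r, L i := le_iSup₂_of_le i hir le_rfl
    have e : ∀ y, l * (g * y * g⁻¹) * l⁻¹ = (l * g) * y * (l * g)⁻¹ := fun y => by group
    refine ⟨l * g, mul_mem (hLr hl) hg, ?_, fun j hj => ?_⟩
    · rw [← e]; exact nWr h hir hl hgW
    · rw [← e]
      by_cases hij : i = j
      · subst hij; exact hlA
      · refine keep h hij hl (hWV hgW) (hgA j ?_)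
        rcases hj with hj | hj
        · rcases Finset.mem_insert.1 hj with hj | hj
          · exact absurd hj.symm hij
          · exact Or.inl hj
        · exact Or.inr hj

/-- `⟨W i : i ∈ r⟩ ∩ ZJ = ⟨Z i : i ∈ r⟩` -/
theorem W_inf_ZJ [Finite ι] : ∀ s : Finset ι, ∀ x, x ∈ (⨆ i ∈ s, W i) → x ∈ ZJ → x ∈ ⨆ i ∈ s, Z i := by
  classical
  intro s
  induction s using Finset.induction_on with
  | empty =>
    intro x hx _
    simp only [Finset.notMem_empty, iSup_false, iSup_bot] at hx ⊢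
    exact hx
  | insert i s hi ih =>
    intro x hx hxJ
    have e1 : (⨆ j ∈ insert i s, W j) = W i ⊔ ⨆ j ∈ s, W j := Finset.iSup_insert _ _ _
    have e2 : (⨆ j ∈ insert i s, Z j) = Z i ⊔ ⨆ j ∈ s, Z j := Finset.iSup_insert _ _ _
    rw [e1] at hx
    rw [e2]
    have hsC : (⨆ j ∈ s, W j) ≤ C i := iSup₂_le fun j hj => h.WjC i j (fun e => hi (e ▸ hj))
    obtain ⟨w, hw, y, hy, rfl⟩ := mem_sup_comm (fun v hv z hz => h.Vc (h.WV i hv) (h.CV i (hsC hz))) hx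
    obtain ⟨z, hz, c, hc, hcJ, e⟩ := h.split_ZJ i hxJ
    obtain ⟨h1, h2⟩ := h.uniq hw ((h.blk i).ZV hz) (hsC hy) hc e
    refine mul_mem (mem_sup_left (by rw [h1]; exact hz)) (mem_sup_right (ih y hy (by rw [h2]; exact hcJ)))

/-- **(m3)** -/
theorem conj_ZJ [Finite G] [Finite ι] (r : Set ι) {x : G} (hx : x ∈ ⨆ i ∈ r, W i) :
    ∃ g ∈ ⨆ i ∈ r, L i, g * x * g⁻¹ ∈ ⨆ i ∈ r, Z i := by
  classical
  have hfin : r.Finite := Set.toFinite r
  obtain ⟨g, hg, hgW, hgA⟩ := conj_aux h r hx hfin.toFinset fun i hi => by simpa using hi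
  refine ⟨g, hg, ?_⟩
  have hWV : (⨆ i ∈ r, W i) ≤ V := iSup₂_le fun i _ => h.WV i
  have h1 : g * x * g⁻¹ ∈ ZJ := h.mem_ZJ_of (hWV hgW) fun i => hgA i (by
    by_cases hi : i ∈ r
    · left; simpa using hi
    · right; exact hi)
  have e1 : ∀ U : ι → Subgroup G, (⨆ i ∈ r, U i) = ⨆ i ∈ hfin.toFinset, U i := by
    intro U
    simp only [Set.Finite.mem_toFinset]
  rw [e1] at hgW ⊢
  exact W_inf_ZJ h _ _ hgW h1

end fr

/-! ### Over a Sylow 2-subgroup -/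

section sylow

variable [Finite G] {ι : Type*} {S : Sylow 2 G} {Q V : Subgroup G} {L W Z C A : ι → Subgroup G}
  (h : Fr (bau (S : Subgroup G)) Q V (zj (S : Subgroup G)) L W Z C A 2 (mm (S : Subgroup G)))
include h

omit h in
theorem AA_le_bau {X : Subgroup G} (hX : X ∈ AA (S : Subgroup G)) : X ≤ bau (S : Subgroup G) := by
  refine le_trans ?_ (ChoiceBase.jj_le_bau _)
  rw [ChoiceBase.jj_eq]
  exact le_sSup hX

/-- **(m1)** -/
theorem act_AA {i : ι} {z : G} (hz : z ∈ Z i) (hz1 : z ≠ 1) {X : Subgroup G} (hX : X ∈ AA (S : Subgroup G)) {a : G}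
    (ha : a ∈ X) {x : G} (hx : x ∈ W i) : a * x * a⁻¹ = x ∨ a * x * a⁻¹ = x * z :=
  act h hz hz1 (AA_le_bau hX ha) hx

/-- **(m2)** -/
theorem hat_AA [Finite ι] {X : Subgroup G} (hX : X ∈ AA (S : Subgroup G)) {i : ι}
    (hi : ∃ a ∈ X, ∃ w ∈ W i, a * w ≠ w * a) :
    ∃ a ∈ X, (∃ w ∈ W i, a * w ≠ w * a) ∧ ∀ j, j ≠ i → ∀ w ∈ W j, a * w = w * a :=
  hat h (AA_le_bau hX) hX.1 (mm_eq hX).symm hi

end sylow

end Cfsg.Agent.Omega.OM.Swap

end

-- merged: Cfsg.Agent.Mrg.Omega.OM.Swap.Facts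
section

/-!
# THEOREM SW (#18741): the structure `MF` (module facts) from the frame `Line S P L W Z C A 2`
-/

set_option autoImplicit false

namespace Cfsg.Agent.Omega.OM.Swap

open Subgroup Cfsg Cfsg.Agent.ZN.ChoiceBase Cfsg.Agent.ZN.ChoiceSit
open Cfsg.Agent.ZN (jj zj bau zc zl o2)

universe u

variable {G : Type u} [Group G] [Finite G] {ι : Type} [Finite ι] {S : Sylow 2 G} {P : Subgroup G}
  {L W Z C A : ι → Subgroup G}

theorem mf (h : Line S P L W Z C A 2) : MF (S : Subgroup G) L W Z where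
  act := fun _ hX _ ha _ _ hx _ hz hz1 => act_AA h.fr hz hz1 hX ha hx
  hat := fun _ hX _ hi => hat_AA h.fr hX hi
  conj := fun r x hx => by
    obtain ⟨g, hg, hgx⟩ := conj_ZJ h.fr r hx
    exact ⟨g, hg, (iSup₂_le fun i _ => h.fr.Z_le i : (⨆ i ∈ r, Z i) ≤ zj (S : Subgroup G)) hgx⟩

end Cfsg.Agent.Omega.OM.Swap

end
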