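import Cfsg.Agent.Mrg.Omega.OM.Swap.Gen.One
import Cfsg.Agent.Mrg.Omega.OM.Swap.Plug
import Cfsg.Agent.Mrg.Omega.OM.SwapV.NegPair

-- merged: Cfsg.Agent.Mrg.Omega.OM.Swap.Star
section

/-!
# THEOREM SW: the star lemma

`StarH.out : StarH F T V z i j c a → ∃ D E, StarO F V z i j D E`; `Sit.false`, `SitF.false`.
-/

set_option autoImplicit false

namespace Cfsg.Agent.Omega.OM.Swap

open Subgroup Cfsg Cfsg.Agent.ZN Cfsg.Agent.ZN.ChoiceBase Cfsg.Agent.ZN.ChoiceSit

universe u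

/-- The input of the star lemma. -/
structure StarH {G : Type u} [Group G] {ι : Type*} (F T : Subgroup G) (V : ι → Subgroup G) (z : ι → G) (i j : ι)
    (c a : G) : Prop where
  syl : Syl T F
  card : ∀ i, Nat.card (V i) = 4
  zV : ∀ i, z i ∈ V i
  z1 : ∀ i, z i ≠ 1
  sq : ∀ i, ∀ x ∈ V i, x * x = 1
  cm : ∀ i j, ∀ x ∈ V i, ∀ y ∈ V j, x * y = y * x
  ind : ∀ i, ∀ x ∈ V i, x ∈ (⨆ j, ⨆ _ : j ≠ i, V j) → x = 1
  perm : ∀ t ∈ T, ∀ i, ∃ j, cj t (V i) = V j ∧ t * z i * t⁻¹ = z j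
  tr : ∀ i j, ∃ o ∈ o2 F, cj o (V i) = V j
  mov : ∀ i, ∃ t ∈ T, (∃ x ∈ V i, t * x ≠ x * t) ∧ ∀ j, j ≠ i → ∀ x ∈ V j, t * x = x * t
  ti : ∀ i, ∀ x ∈ V i, x ≠ 1 → x ∉ cj a (⨆ j, V j)
  ij : i ≠ j
  cT : c ∈ T
  cc : ∀ u ∈ ⨆ k, V k, c * (c * u * c⁻¹) * c⁻¹ = u
  cV : cj c (V i) = V j
  aF : a ∈ F
  star : ∀ x ∈ V i, a * (x * (c * x * c⁻¹)) = x * (c * x * c⁻¹) * a

section Four

open M4

variable {G : Type u} [Group G]

/-- `⟨x, z⟩` in coordinates -/
def al {x z : G} (hx : x * x = 1) (hz' : z * z = 1) (hc : x * z = z * x) : Z2 × Z2 →* G :=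
  MonoidHom.noncommCoprod (hz x hx) (hz z hz') (by
    intro m n
    rcases z2_cases m with rfl | rfl
    · rw [map_one]; exact Commute.one_left _
    · rcases z2_cases n with rfl | rfl
      · rw [map_one]; exact Commute.one_right _
      · rw [hz_g, hz_g]; exact hc)

theorem al_gg {x z : G} (hx : x * x = 1) (hz' : z * z = 1) (hc : x * z = z * x) : al hx hz' hc (g, g) = x * z := by
  change hz x hx g * hz z hz' g = x * z
  rw [hz_g, hz_g]

theorem al_g1 {x z : G} (hx : x * x = 1) (hz' : z * z = 1) (hc : x * z = z * x) : al hx hz' hc (g, 1) = x := by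
  change hz x hx g * hz z hz' 1 = x
  rw [hz_g, map_one, mul_one]

theorem al_1g {x z : G} (hx : x * x = 1) (hz' : z * z = 1) (hc : x * z = z * x) : al hx hz' hc (1, g) = z := by
  change hz x hx 1 * hz z hz' g = z
  rw [hz_g, map_one, one_mul]

theorem al_inj {x z : G} (hx : x * x = 1) (hz' : z * z = 1) (hc : x * z = z * x) (x1 : x ≠ 1) (z1 : z ≠ 1)
    (xz : x ≠ z) : Function.Injective (al hx hz' hc) := by
  rw [injective_iff_map_eq_one]
  rintro ⟨m, n⟩ hm
  rcases z2_cases m with rfl | rfl <;> rcases z2_cases n with rfl | rfl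
  · rfl
  · rw [al_1g] at hm; exact absurd hm z1
  · rw [al_g1] at hm; exact absurd hm x1
  · rw [al_gg] at hm
    exact absurd ((eq_inv_of_mul_eq_one_left hm).trans (inv_eq_of_mul_eq_one_left hz')) xz

theorem al_range {x z : G} (hx : x * x = 1) (hz' : z * z = 1) (hc : x * z = z * x) (x1 : x ≠ 1) (z1 : z ≠ 1)
    (xz : x ≠ z) {W : Subgroup G} (hW : Nat.card W = 4) (hxW : x ∈ W) (hzW : z ∈ W) : (al hx hz' hc).range = W := by
  have : Finite W := Nat.finite_of_card_ne_zero (by rw [hW]; decide)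
  apply eq_of_le_of_card_ge
  · rintro _ ⟨⟨m, n⟩, rfl⟩
    rcases z2_cases m with rfl | rfl <;> rcases z2_cases n with rfl | rfl
    · change al hx hz' hc 1 ∈ W
      rw [map_one]; exact one_mem _
    · rw [al_1g]; exact hzW
    · rw [al_g1]; exact hxW
    · rw [al_gg]; exact mul_mem hxW hzW
  · have h1 : Nat.card (al hx hz' hc).range = Nat.card (Z2 × Z2) :=
      (Nat.card_congr (MonoidHom.ofInjective (al_inj hx hz' hc x1 z1 xz)).toEquiv).symm
    rw [hW, h1, Nat.card_eq_fintype_card]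
    decide

/-- The elements of a four group. -/
theorem four {x z : G} (hx : x * x = 1) (hz' : z * z = 1) (hc : x * z = z * x) (x1 : x ≠ 1) (z1 : z ≠ 1)
    (xz : x ≠ z) {W : Subgroup G} (hW : Nat.card W = 4) (hxW : x ∈ W) (hzW : z ∈ W) {y : G} (hy : y ∈ W) :
    y = 1 ∨ y = z ∨ y = x ∨ y = x * z := by
  rw [← al_range hx hz' hc x1 z1 xz hW hxW hzW] at hy
  obtain ⟨⟨m, n⟩, rfl⟩ := hy
  rcases z2_cases m with rfl | rfl <;> rcases z2_cases n with rfl | rfl
  · left; exact map_one _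
  · right; left; exact al_1g _ _ _
  · right; right; left; exact al_g1 _ _ _
  · right; right; right; exact al_gg _ _ _

end Four

open M4

namespace StarH

variable {G : Type u} [Group G] {ι : Type*} {F T : Subgroup G} {V : ι → Subgroup G} {z : ι → G} {i j : ι} {c a : G}

variable (h : StarH F T V z i j c a)
include h

theorem V_inj {k l : ι} (e : V k = V l) : k = l := by
  by_contra hne
  refine h.z1 k (h.ind k _ (h.zV k) ?_)
  have h1 : V l ≤ ⨆ j, ⨆ _ : j ≠ k, V j := le_iSup₂_of_le l (Ne.symm hne) le_rfl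
  exact h1 (e ▸ h.zV k)

theorem inv_eq {k : ι} {x : G} (hx : x ∈ V k) : x⁻¹ = x := inv_eq_of_mul_eq_one_left (h.sq k x hx)

/-- An element of `T` which maps `V k` to `V l` maps `z k` to `z l`. -/
theorem z_of {t : G} (ht : t ∈ T) {k l : ι} (e : cj t (V k) = V l) : t * z k * t⁻¹ = z l := by
  obtain ⟨m, hm, hz⟩ := h.perm t ht k
  have : m = l := h.V_inj (hm.symm.trans e)
  rw [← this]
  exact hz

theorem cj_inj {t : G} {k l m : ι} (e : cj t (V k) = V m) (e' : cj t (V l) = V m) : k = l := by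
  apply h.V_inj
  have h1 := congrArg (cj t⁻¹) (e.trans e'.symm)
  rwa [cj_inv_cj, cj_inv_cj] at h1

theorem cj_T_le {t : G} (ht : t ∈ T) : cj t (⨆ k, V k) ≤ ⨆ k, V k := by
  rw [cj_iSup]
  refine iSup_le fun i => ?_
  obtain ⟨j, hj, -⟩ := h.perm t ht i
  rw [hj]
  exact le_iSup V j

theorem cj_T {t : G} (ht : t ∈ T) : cj t (⨆ k, V k) = ⨆ k, V k := by
  refine le_antisymm (h.cj_T_le ht) ?_
  have h1 := cj_mono t (h.cj_T_le (inv_mem ht))
  rwa [cj_cj_inv] at h1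

theorem O_le [Finite G] : o2 F ≤ T := o2_le_syl h.syl

/-- `O` normalises `cj a U`. -/
theorem conj_a [Finite G] {o : G} (ho : o ∈ o2 F) : cj o (cj a (⨆ k, V k)) = cj a (⨆ k, V k) := by
  have h1 : a⁻¹ * o * a ∈ o2 F := by
    have h2 := cj_eq_of_mem_normalizer (ChoiceSit.le_normalizer_o2 F h.aF)
    rw [← h2] at ho
    exact mem_cj.1 ho
  have e : o * a = a * (a⁻¹ * o * a) := by group
  rw [cj_cj, e, ← cj_cj, h.cj_T (h.O_le h1)]

/-- The transvection on `V k`. -/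
theorem exists_t (k : ι) : ∃ t ∈ T, ∃ x ∈ V k, x ≠ 1 ∧ x ≠ z k ∧ cj t (V k) = V k ∧ t * z k * t⁻¹ = z k ∧
    t * x * t⁻¹ = x * z k ∧ ∀ l, l ≠ k → ∀ y ∈ V l, t * y = y * t := by
  obtain ⟨t, ht, ⟨x, hx, hm⟩, ho⟩ := h.mov k
  have h1 : cj t (V k) = V k := by
    obtain ⟨l, hl, -⟩ := h.perm t ht k
    by_cases hlk : l = k
    · rw [hlk] at hl; exact hl
    · exfalso
      have h2 : cj t (V l) = V l := by
        apply le_antisymm
        · intro y hy
          have h3 := mem_cj.1 hy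
          have h4 := ho l hlk _ h3
          have h5 : t⁻¹ * y * t = y := by
            have : t * (t⁻¹ * y * t) = y * t := by group
            rw [this] at h4
            exact (mul_right_cancel h4).symm
          rwa [h5] at h3
        · intro y hy
          rw [mem_cj]
          have h4 := ho l hlk _ hy
          have h5 : t⁻¹ * y * t = y := by
            rw [mul_assoc, ← h4, inv_mul_cancel_left]
          rwa [h5]
      exact hlk (h.cj_inj hl h2).symm
  have hz := h.z_of ht h1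
  have hx1 : x ≠ 1 := by
    rintro rfl
    exact hm (by rw [mul_one, one_mul])
  have hxz : x ≠ z k := by
    rintro rfl
    exact hm (mul_inv_eq_iff_eq_mul.1 hz)
  refine ⟨t, ht, x, hx, hx1, hxz, h1, hz, ?_, ho⟩
  have h2 : t * x * t⁻¹ ∈ V k := by
    rw [← h1]
    exact conj_mem_cj hx
  rcases four (h.sq k x hx) (h.sq k _ (h.zV k)) (h.cm k k x hx _ (h.zV k)) hx1 (h.z1 k) hxz (h.card k) hx (h.zV k) h2
    with h3 | h3 | h3 | h3
  · exact absurd (conj_eq_one_iff.1 h3) hx1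
  · rw [← hz] at h3
    exact absurd (mul_left_cancel (mul_right_cancel h3)) hxz
  · exact absurd (mul_inv_eq_iff_eq_mul.1 h3) hm
  · exact h3

omit h in
theorem cj_hom (w u v : G) : w * (u * v) * w⁻¹ = (w * u * w⁻¹) * (w * v * w⁻¹) := by group

/-- `O` normalises `I = U ⊓ cj a U`. -/
theorem I_nor [Finite G] {o u : G} (ho : o ∈ o2 F) (hu : u ∈ (⨆ k, V k) ⊓ cj a (⨆ k, V k)) :
    o * u * o⁻¹ ∈ (⨆ k, V k) ⊓ cj a (⨆ k, V k) := by
  constructor
  · rw [← h.cj_T (h.O_le ho)]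
    exact conj_mem_cj hu.1
  · rw [← h.conj_a ho]
    exact conj_mem_cj hu.2

theorem star_mem {x : G} (hx : x ∈ V i) : x * (c * x * c⁻¹) ∈ (⨆ k, V k) ⊓ cj a (⨆ k, V k) := by
  have h1 : x * (c * x * c⁻¹) ∈ ⨆ k, V k := by
    refine mul_mem (le_iSup V i hx) (le_iSup V j ?_)
    rw [← h.cV]; exact conj_mem_cj hx
  refine mem_inf.2 ⟨h1, mem_cj.2 ?_⟩
  have h2 := h.star x hx
  have h3 : a⁻¹ * (x * (c * x * c⁻¹)) * a = x * (c * x * c⁻¹) := by
    rw [mul_assoc, ← h2, inv_mul_cancel_left]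
  rwa [h3]

theorem fix_conj {t s : G} {k l : ι} (hto : ∀ l, l ≠ k → ∀ y ∈ V l, t * y = y * t) (hs : s ∈ T)
    (hne : cj s (V k) ≠ V l) {u : G} (hu : u ∈ V l) : t * (s⁻¹ * u * s) * t⁻¹ = s⁻¹ * u * s := by
  obtain ⟨m, hm, -⟩ := h.perm s⁻¹ (inv_mem hs) l
  have hmk : m ≠ k := by
    rintro rfl
    apply hne
    rw [← hm, cj_cj_inv]
  have h1 : s⁻¹ * u * s ∈ V m := by
    rw [← hm]
    have := conj_mem_cj (g := s⁻¹) hu
    rwa [inv_inv] at this
  exact mul_inv_eq_iff_eq_mul.2 (hto m hmk _ h1)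

/-- Third factors do not exist. -/
theorem only [Finite G] (k : ι) : k = i ∨ k = j := by
  by_contra hk
  rw [not_or] at hk
  obtain ⟨t, ht, x, hx, x1, xz, htV, htz, htx, hto⟩ := h.exists_t i
  obtain ⟨s, hs, hsV⟩ := h.tr i k
  have hsT := h.O_le hs
  have hzi := h.zV i
  have zz := h.sq i _ hzi
  -- `t⁻¹ x t = x z`
  have hcz := h.cm i i x hx _ hzi
  have h1 : t⁻¹ * x * t = x * z i := by
    have e1 : t⁻¹ * (t * x * t⁻¹) * t = x := by group
    have e2 : t⁻¹ * (t * z i * t⁻¹) * t = z i := by group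
    rw [htx] at e1
    rw [htz] at e2
    have e3 : t⁻¹ * (x * z i) * t = (t⁻¹ * x * t) * (t⁻¹ * z i * t) := by group
    rw [e3, e2] at e1
    rw [← mul_inv_eq_iff_eq_mul.2 e1.symm, h.inv_eq hzi] 
  have hstar := h.star_mem hx
  set y := c * x * c⁻¹ with hy
  have hyV : y ∈ V j := by rw [← h.cV]; exact conj_mem_cj hx
  have hw : s * (t * s⁻¹ * t⁻¹) ∈ o2 F := by
    refine mul_mem hs ?_
    have h2 := cj_eq_of_mem_normalizer (ChoiceSit.le_normalizer_o2 F (h.syl.1 ht))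
    rw [← h2]
    exact conj_mem_cj (inv_mem hs)
  have hI := h.I_nor hw hstar
  have hwx : ∀ u : G, (s * (t * s⁻¹ * t⁻¹)) * u * (s * (t * s⁻¹ * t⁻¹))⁻¹ =
      s * (t * (s⁻¹ * (t⁻¹ * u * t) * s) * t⁻¹) * s⁻¹ := fun u => by group
  have h3 : (s * (t * s⁻¹ * t⁻¹)) * x * (s * (t * s⁻¹ * t⁻¹))⁻¹ = x * z i := by
    rw [hwx, h1, h.fix_conj hto hsT (l := i) ?_ (mul_mem hx hzi)]
    · group
    · rw [hsV]
      exact fun e => hk.1 (h.V_inj e)
  have h4 : (s * (t * s⁻¹ * t⁻¹)) * y * (s * (t * s⁻¹ * t⁻¹))⁻¹ = y := by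
    have h5 : t⁻¹ * y * t = y := by
      rw [mul_assoc, ← hto j h.ij.symm y hyV, inv_mul_cancel_left]
    rw [hwx, h5, h.fix_conj hto hsT (l := j) ?_ hyV]
    · group
    · rw [hsV]
      exact fun e => hk.2 (h.V_inj e)
  rw [cj_hom, h3, h4] at hI
  have h7 := mul_mem hstar hI
  have c1 := h.cm j i y hyV x hx
  have c2 := h.cm j i y hyV _ hzi
  have e : x * y * (x * z i * y) = z i := by
    calc x * y * (x * z i * y) = x * (y * x) * z i * y := by group
      _ = x * x * (y * z i) * y := by rw [c1]; group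
      _ = x * x * z i * (y * y) := by rw [c2]; group
      _ = z i := by rw [h.sq i x hx, h.sq j y hyV, one_mul, mul_one]
  rw [e] at h7
  exact h.ti i _ hzi (h.z1 i) h7.2

/-- `z i, z j ∉ I`. -/
theorem z_notMem (k : ι) : z k ∉ (⨆ k, V k) ⊓ cj a (⨆ k, V k) := fun h1 => h.ti k _ (h.zV k) (h.z1 k) h1.2

/-- The coordinates. -/
structure Co {G : Type u} [Group G] {ι : Type*} (F T : Subgroup G) (V : ι → Subgroup G) (z : ι → G) (i j : ι)
    (c a : G) (x : G) (φ : M4 →* G) : Prop where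
  inj : Function.Injective φ
  range : φ.range = ⨆ k, V k
  e1 : φ e1 = x
  e2 : φ e2 = z i
  e3 : φ e3 = c * x * c⁻¹
  e4 : φ e4 = z j
  hi : ∀ p, φ (p, 1) ∈ V i
  hj : ∀ p, φ (1, p) ∈ V j

theorem exists_co [Finite G] {x : G} (hx : x ∈ V i) (x1 : x ≠ 1) (xz : x ≠ z i) :
    ∃ φ : M4 →* G, Co F T V z i j c a x φ := by
  have hzi := h.zV i
  have hzj := h.zV j
  have hy : c * x * c⁻¹ ∈ V j := by rw [← h.cV]; exact conj_mem_cj hx
  have hz := h.z_of h.cT h.cV
  have y1 : c * x * c⁻¹ ≠ 1 := fun e => x1 (conj_eq_one_iff.1 e)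
  have yz : c * x * c⁻¹ ≠ z j := fun e => xz (by
    rw [← hz] at e
    exact mul_left_cancel (mul_right_cancel e))
  let A := al (h.sq i x hx) (h.sq i _ hzi) (h.cm i i x hx _ hzi)
  let B := al (h.sq j _ hy) (h.sq j _ hzj) (h.cm j j _ hy _ hzj)
  have hA : A.range = V i := al_range _ _ _ x1 (h.z1 i) xz (h.card i) hx hzi
  have hB : B.range = V j := al_range _ _ _ y1 (h.z1 j) yz (h.card j) hy hzj
  have hAm : ∀ p, A p ∈ V i := fun p => by rw [← hA]; exact ⟨p, rfl⟩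
  have hBm : ∀ p, B p ∈ V j := fun p => by rw [← hB]; exact ⟨p, rfl⟩
  have hAi : Function.Injective A := al_inj _ _ _ x1 (h.z1 i) xz
  have hBi : Function.Injective B := al_inj _ _ _ y1 (h.z1 j) yz
  let φ : M4 →* G := MonoidHom.noncommCoprod A B fun m n => h.cm i j _ (hAm m) _ (hBm n)
  have hφ : ∀ p q, φ (p, q) = A p * B q := fun _ _ => rfl
  refine ⟨φ, ?_, ?_, ?_, ?_, ?_, ?_, ?_, ?_⟩
  · rw [injective_iff_map_eq_one]
    rintro ⟨p, q⟩ hm
    rw [hφ] at hm
    have h1 : A p = (B q)⁻¹ := eq_inv_of_mul_eq_one_left hm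
    have h2 : A p = 1 := h.ind i _ (hAm p) (by
      rw [h1]
      exact le_iSup₂_of_le (f := fun j (_ : j ≠ i) => V j) j h.ij.symm le_rfl (inv_mem (hBm q)))
    rw [h2, one_mul] at hm
    rw [← map_one A] at h2
    rw [← map_one B] at hm
    rw [hAi h2, hBi hm]
    rfl
  · apply le_antisymm
    · rintro _ ⟨⟨p, q⟩, rfl⟩
      rw [hφ]
      exact mul_mem (le_iSup V i (hAm p)) (le_iSup V j (hBm q))
    · refine iSup_le fun k => ?_
      rcases h.only k with rfl | rfl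
      · rw [← hA]
        rintro _ ⟨p, rfl⟩
        exact ⟨(p, 1), by rw [hφ, map_one, mul_one]⟩
      · rw [← hB]
        rintro _ ⟨p, rfl⟩
        exact ⟨(1, p), by rw [hφ, map_one, one_mul]⟩
  · rw [hφ]
    exact (congrArg₂ _ (al_g1 _ _ _) (map_one B)).trans (mul_one _)
  · rw [hφ]
    exact (congrArg₂ _ (al_1g _ _ _) (map_one B)).trans (mul_one _)
  · rw [hφ]
    exact (congrArg₂ _ (map_one A) (al_g1 _ _ _)).trans (one_mul _)
  · rw [hφ]
    exact (congrArg₂ _ (map_one A) (al_1g _ _ _)).trans (one_mul _)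
  · intro p
    rw [hφ, map_one, mul_one]
    exact hAm p
  · intro p
    rw [hφ, map_one, one_mul]
    exact hBm p

omit h in
/-- Conjugation by `o` in coordinates, from the four generators. -/
theorem conj_of {φ : M4 →* G} {ψ : M4 →* M4} {o : G} (h1 : o * φ e1 * o⁻¹ = φ (ψ e1)) (h2 : o * φ e2 * o⁻¹ = φ (ψ e2))
    (h3 : o * φ e3 * o⁻¹ = φ (ψ e3)) (h4 : o * φ e4 * o⁻¹ = φ (ψ e4)) (m : M4) : o * φ m * o⁻¹ = φ (ψ m) := by
  have : (MulAut.conj o).toMonoidHom.comp φ = φ.comp ψ := hom_ext h1 h2 h3 h4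
  exact DFunLike.congr_fun this m

theorem cls_i [Finite G] {x : G} {φ : M4 →* G} (hc : Co F T V z i j c a x φ) (hx : x ∈ V i) (x1 : x ≠ 1)
    (xz : x ≠ z i) {u : G} (hu : u ∈ V i) (u1 : u ≠ 1) (uz : u ≠ z i) : u = φ M4.e1 ∨ u = φ (M4.e1 * M4.e2) := by
  rw [map_mul, hc.e1, hc.e2]
  rcases four (h.sq i x hx) (h.sq i _ (h.zV i)) (h.cm i i x hx _ (h.zV i)) x1 (h.z1 i) xz (h.card i) hx (h.zV i) hu
    with h3 | h3 | h3 | h3
  · exact absurd h3 u1
  · exact absurd h3 uz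
  · exact Or.inl h3
  · exact Or.inr h3

theorem cls_j [Finite G] {x : G} {φ : M4 →* G} (hc : Co F T V z i j c a x φ) (hx : x ∈ V i) (x1 : x ≠ 1)
    (xz : x ≠ z i) {u : G} (hu : u ∈ V j) (u1 : u ≠ 1) (uz : u ≠ z j) : u = φ M4.e3 ∨ u = φ (M4.e3 * M4.e4) := by
  rw [map_mul, hc.e3, hc.e4]
  have hy : c * x * c⁻¹ ∈ V j := by rw [← h.cV]; exact conj_mem_cj hx
  have hz := h.z_of h.cT h.cV
  have y1 : c * x * c⁻¹ ≠ 1 := fun e => x1 (conj_eq_one_iff.1 e)
  have yz : c * x * c⁻¹ ≠ z j := fun e => xz (by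
    rw [← hz] at e
    exact mul_left_cancel (mul_right_cancel e))
  rcases four (h.sq j _ hy) (h.sq j _ (h.zV j)) (h.cm j j _ hy _ (h.zV j)) y1 (h.z1 j) yz (h.card j) hy (h.zV j) hu
    with h3 | h3 | h3 | h3
  · exact absurd h3 u1
  · exact absurd h3 uz
  · exact Or.inl h3
  · exact Or.inr h3

theorem actO [Finite G] {x : G} {φ : M4 →* G} (hc : Co F T V z i j c a x φ) (hx : x ∈ V i) (x1 : x ≠ 1)
    (xz : x ≠ z i) {o : G} (ho : o ∈ o2 F) : ∃ k, ∀ m, o * φ m * o⁻¹ = φ (act k m) := by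
  have hoT := h.O_le ho
  have hy : c * x * c⁻¹ ∈ V j := by rw [← h.cV]; exact conj_mem_cj hx
  have hz := h.z_of h.cT h.cV
  have y1 : c * x * c⁻¹ ≠ 1 := fun e => x1 (conj_eq_one_iff.1 e)
  have yz : c * x * c⁻¹ ≠ z j := fun e => xz (by
    rw [← hz] at e
    exact mul_left_cancel (mul_right_cancel e))
  have key : ∀ p q, o * φ M4.e1 * o⁻¹ = φ p → o * φ M4.e3 * o⁻¹ = φ q →
      (M4.e1 * M4.e3) * (p * q) ≠ M4.e2 ∧ (M4.e1 * M4.e3) * (p * q) ≠ M4.e4 := by
    intro p q hp hq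
    have h1 : φ ((M4.e1 * M4.e3) * (p * q)) ∈ (⨆ k, V k) ⊓ cj a (⨆ k, V k) := by
      rw [map_mul, map_mul, map_mul, ← hp, ← hq, hc.e1, hc.e3, ← cj_hom]
      exact mul_mem (h.star_mem hx) (h.I_nor ho (h.star_mem hx))
    constructor
    · intro e
      rw [e, hc.e2] at h1
      exact h.z_notMem i h1
    · intro e
      rw [e, hc.e4] at h1
      exact h.z_notMem j h1
  obtain ⟨m, hm, hzm⟩ := h.perm o hoT i
  obtain ⟨m', hm', hzm'⟩ := h.perm o hoT j
  have hox : ∀ {u : G}, u ≠ 1 → o * u * o⁻¹ ≠ 1 := fun hu e => hu (conj_eq_one_iff.1 e)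
  have hoz : ∀ {u v : G}, u ≠ v → o * u * o⁻¹ ≠ o * v * o⁻¹ := fun hu e => hu (mul_left_cancel (mul_right_cancel e))
  rcases h.only m with e | e
  · rw [e] at hm hzm
    have e' : m' = j := by
      rcases h.only m' with e' | e'
      · rw [e'] at hm'
        exact absurd (h.cj_inj hm hm') h.ij
      · exact e'
    rw [e'] at hm' hzm'
    have hu : o * x * o⁻¹ ∈ V i := by rw [← hm]; exact conj_mem_cj hx
    have hv : o * (c * x * c⁻¹) * o⁻¹ ∈ V j := by rw [← hm']; exact conj_mem_cj hy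
    have hu' := h.cls_i hc hx x1 xz hu (hox x1) (by rw [← hzm]; exact hoz xz)
    have hv' := h.cls_j hc hx x1 xz hv (hox y1) (by rw [← hzm']; exact hoz yz)
    rw [← hc.e1] at hu'
    rw [← hc.e3] at hv'
    rw [← hc.e2] at hzm
    rw [← hc.e4] at hzm'
    rcases hu' with hu' | hu' <;> rcases hv' with hv' | hv'
    · exact ⟨(false, false), conj_of (ψ := actH (false, false)) hu' hzm hv' hzm'⟩
    · exact absurd (by decide) (key _ _ hu' hv').2
    · exact absurd (by decide) (key _ _ hu' hv').1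
    · exact ⟨(false, true), conj_of (ψ := actH (false, true)) hu' hzm hv' hzm'⟩
  · rw [e] at hm hzm
    have e' : m' = i := by
      rcases h.only m' with e' | e'
      · exact e'
      · rw [e'] at hm'
        exact absurd (h.cj_inj hm hm') h.ij
    rw [e'] at hm' hzm'
    have hu : o * x * o⁻¹ ∈ V j := by rw [← hm]; exact conj_mem_cj hx
    have hv : o * (c * x * c⁻¹) * o⁻¹ ∈ V i := by rw [← hm']; exact conj_mem_cj hy
    have hu' := h.cls_j hc hx x1 xz hu (hox x1) (by rw [← hzm]; exact hoz xz)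
    have hv' := h.cls_i hc hx x1 xz hv (hox y1) (by rw [← hzm']; exact hoz yz)
    rw [← hc.e1] at hu'
    rw [← hc.e3] at hv'
    rw [← hc.e2, ← hc.e4] at hzm
    rw [← hc.e4, ← hc.e2] at hzm'
    rcases hu' with hu' | hu' <;> rcases hv' with hv' | hv'
    · exact ⟨(true, false), conj_of (ψ := actH (true, false)) hu' hzm hv' hzm'⟩
    · exact absurd (by decide) (key _ _ hu' hv').1
    · exact absurd (by decide) (key _ _ hu' hv').2
    · exact ⟨(true, true), conj_of (ψ := actH (true, true)) hu' hzm hv' hzm'⟩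

/-- The star lemma. -/
theorem out [Finite G] : ∃ D E, StarO F V z i j D E := by
  obtain ⟨t, ht, x, hx, x1, xz, htV, htz, htx, hto⟩ := h.exists_t i
  obtain ⟨φ, hc⟩ := h.exists_co hx x1 xz
  have hO := fun o ho => h.actO hc hx x1 xz (o := o) ho
  have hy : c * x * c⁻¹ ∈ V j := by rw [← h.cV]; exact conj_mem_cj hx
  have hz := h.z_of h.cT h.cV
  have hloc := loc_of hc.inj hc.range hO
  rw [map_mul, hc.e2, hc.e4] at hloc
  -- the action of `c`
  have hcc : ∀ m, c * φ m * c⁻¹ = φ (act (true, false) m) := by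
    refine conj_of (ψ := actH (true, false)) ?_ ?_ ?_ ?_
    · change c * φ M4.e1 * c⁻¹ = φ M4.e3
      rw [hc.e1, hc.e3]
    · change c * φ M4.e2 * c⁻¹ = φ M4.e4
      rw [hc.e2, hc.e4, hz]
    · change c * φ M4.e3 * c⁻¹ = φ M4.e1
      rw [hc.e1, hc.e3]
      exact h.cc x (le_iSup V i hx)
    · change c * φ M4.e4 * c⁻¹ = φ M4.e2
      rw [hc.e2, hc.e4, ← hz]
      exact h.cc _ (le_iSup V i (h.zV i))
  -- the action of `t`
  have htt : ∀ m, t * φ m * t⁻¹ = φ (tauH m) := by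
    refine conj_of (ψ := tauH) ?_ ?_ ?_ ?_
    · change t * φ M4.e1 * t⁻¹ = φ (M4.e1 * M4.e2)
      rw [map_mul, hc.e1, hc.e2, htx]
    · change t * φ M4.e2 * t⁻¹ = φ M4.e2
      rw [hc.e2, htz]
    · change t * φ M4.e3 * t⁻¹ = φ M4.e3
      rw [hc.e3]
      exact mul_inv_eq_iff_eq_mul.2 (hto j h.ij.symm _ hy)
    · change t * φ M4.e4 * t⁻¹ = φ M4.e4
      rw [hc.e4]
      exact mul_inv_eq_iff_eq_mul.2 (hto j h.ij.symm _ (h.zV j))
  have hpp : ∀ p, φ (p, p) ∈ (⨆ k, V k) ⊓ cj a (⨆ k, V k) := by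
    intro p
    have h1 := h.star_mem (hc.hi p)
    have e : φ (p, 1) * (c * φ (p, 1) * c⁻¹) = φ (p, p) := by
      rw [hcc, ← map_mul]
      congr 1
      change ((p, 1) * (1, p) : M4) = (p, p)
      simp
    rwa [e] at h1
  have hEt : (fixS (true, false)).map φ = (⨆ k, V k) ⊓ cj a (⨆ k, V k) := by
    apply le_antisymm
    · rintro _ ⟨⟨p, q⟩, hm, rfl⟩
      rw [d_fix p q (mem_fixS.1 hm)]
      exact hpp p
    · intro u hu
      have hu' := hu.1
      rw [SetLike.mem_coe, ← hc.range] at hu'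
      obtain ⟨⟨p, q⟩, rfl⟩ := hu'
      have h1 := mul_mem hu (hpp p)
      rw [← map_mul] at h1
      have e : ((p, q) * (p, p) : M4) = (1, q * p) := by
        rw [Prod.mk_mul_mk]
        congr 1
        have : ∀ p : Z2 × Z2, p * p = 1 := by decide
        exact this p
      rw [e] at h1
      have h2 : φ (1, q * p) = 1 := by
        by_contra hne
        exact h.ti j _ (hc.hj _) hne h1.2
      rw [← map_one φ] at h2
      have h3 : q * p = 1 := congrArg Prod.snd (hc.inj h2)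
      rw [d_fix2 p q h3]
      exact ⟨(p, p), mem_fixS.2 (d_fix' p), rfl⟩
  have hEf : (fixS (true, true)).map φ = (⨆ k, V k) ⊓ cj (t * a) (⨆ k, V k) := by
    have h1 : (fixS (true, true)).map φ = cj t ((fixS (true, false)).map φ) := by
      rw [← map_tau, Subgroup.map_map, cj, Subgroup.map_map]
      congr 1
      ext m
      exact (htt m).symm
    rw [h1, hEt, cj_inf, h.cj_T ht, cj_cj]
  refine ⟨DD.map φ, fun b => if b then (fixS (true, false)).map φ else (fixS (true, true)).map φ,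
    h.ij, h.only, hloc, ?_, ?_, ?_, ?_⟩
  · rintro (_ | _)
    · rw [if_neg (by decide), PLocal.ThompsonJ.card_map_injective _ hc.inj]
      exact card_fixS _ (by decide)
    · rw [if_pos rfl, PLocal.ThompsonJ.card_map_injective _ hc.inj]
      exact card_fixS _ (by decide)
  · rw [if_pos rfl, if_neg (by decide)]
    exact fun e => fixS_ne (Subgroup.map_injective hc.inj e)
  · rintro (_ | _)
    · rw [if_neg (by decide)]
      exact ⟨t * a, mul_mem (h.syl.1 ht) h.aF, hEf⟩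
    · rw [if_pos rfl]
      exact ⟨a, h.aF, hEt⟩
  · rintro o ho k l ⟨u, hu, hm⟩
    obtain ⟨κ, hκ⟩ := hO o ho
    have hne : κ ≠ (false, false) := by
      rintro rfl
      have hu' := le_iSup V k hu
      rw [← hc.range] at hu'
      obtain ⟨m, rfl⟩ := hu'
      apply hm
      rw [← mul_inv_eq_iff_eq_mul, hκ, act_ff]
    rcases h.only l with e | e
    · rw [e]
      refine ⟨φ M4.e1, hc.hi _, fun h1 => d_mv1 κ hne (hc.inj ?_)⟩
      rw [← hκ, h1, mul_inv_cancel_right]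
    · rw [e]
      refine ⟨φ M4.e3, hc.hj _, fun h1 => d_mv3 κ hne (hc.inj ?_)⟩
      rw [← hκ, h1, mul_inv_cancel_right]

end StarH

end Cfsg.Agent.Omega.OM.Swap

end

-- merged: Cfsg.Agent.Mrg.Omega.OM.Swap.End
section

section


/-!
# THEOREM SW: the end

`Sit.false`, `Fam.SitF.false`, `sitFalse : SitFalse`.
-/

set_option autoImplicit false

namespace Cfsg.Agent.Omega.OM.Swap

open Subgroup Cfsg Cfsg.Agent.ZN Cfsg.Agent.ZN.ChoiceBase Cfsg.Agent.ZN.ChoiceSit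

universe u

variable {G : Type u} [Group G] {ι : Type*} {F T F₀ : Subgroup G} {𝓐 : Set (Subgroup G)} {V : ι → Subgroup G}
  {z : ι → G}

/-- The star lemma for `Sit`. -/
theorem Sit.starO [Finite G] (h : Sit F T F₀ V z) {i j : ι} (hij : i ≠ j) {c a : G} (hc : c ∈ T)
    (hc2 : ∀ u ∈ ⨆ k, V k, c * (c * u * c⁻¹) * c⁻¹ = u) (hcV : cj c (V i) = V j) (ha : a ∈ F) (ha0 : a ∉ F₀)
    (hE : ∀ x ∈ V i, a * (x * (c * x * c⁻¹)) = x * (c * x * c⁻¹) * a) : ∃ D E, StarO F V z i j D E :=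
  StarH.out (T := T) (c := c) (a := a)
    { syl := h.syl
      card := h.card
      zV := h.zV
      z1 := h.z1
      sq := h.sq
      cm := fun i j x hx y hy => by
        have := h.comm 1 (one_mem F) i j x hx y hy
        simpa using this
      ind := h.ind
      perm := h.perm
      tr := h.tr
      mov := fun i => by
        obtain ⟨A, hA, hm⟩ := h.mov i
        obtain ⟨t, ht, h1, h2⟩ := h.hat A hA i hm
        exact ⟨t, hA.2.1 ht, h1, h2⟩
      ti := fun i x hx hx1 hxa => ha0 (h.ti i x hx hx1 a ha hxa)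
      ij := hij
      cT := hc
      cc := hc2
      cV := hcV
      aF := ha
      star := hE }

theorem Sit.false [Finite G] (h : Sit F T F₀ V z) : False := by
  obtain ⟨i, j, hij, c, hc, hc2, hcV, a, ha, ha0, hE⟩ := h.exists_star
  obtain ⟨D, E, hs⟩ := h.starO hij hc (fun u _ => by
    have h1 : c * (c * u * c⁻¹) * c⁻¹ = (c * c) * u * (c * c)⁻¹ := by group
    rw [h1, hc2]; group) hcV ha ha0 hE
  exact h.false_of hs

/-- The star lemma for `SitF`. -/
theorem Fam.SitF.starO [Finite G] (h : Fam.SitF F T F₀ 𝓐 V z) {i j : ι} (hij : i ≠ j) {c a : G} (hc : c ∈ T)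
    (hc2 : ∀ u ∈ ⨆ k, V k, c * (c * u * c⁻¹) * c⁻¹ = u) (hcV : cj c (V i) = V j) (ha : a ∈ F) (ha0 : a ∉ F₀)
    (hE : ∀ x ∈ V i, a * (x * (c * x * c⁻¹)) = x * (c * x * c⁻¹) * a) : ∃ D E, StarO F V z i j D E :=
  StarH.out (T := T) (c := c) (a := a)
    { syl := h.syl
      card := h.card
      zV := h.zV
      z1 := h.z1
      sq := h.sq
      cm := fun i j x hx y hy => by
        have := h.comm 1 (one_mem F) i j x hx y hy
        simpa using this
      ind := h.ind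
      perm := h.perm
      tr := h.tr
      mov := h.mov
      ti := fun i x hx hx1 hxa => ha0 (h.ti i x hx hx1 a ha hxa)
      ij := hij
      cT := hc
      cc := hc2
      cV := hcV
      aF := ha
      star := hE }

theorem Fam.SitF.false [Finite G] (h : Fam.SitF F T F₀ 𝓐 V z) : False := by
  obtain ⟨i, j, hij, c, hc, hc2, hcV, a, ha, ha0, hE⟩ := h.exists_star
  obtain ⟨D, E, hs⟩ := h.starO hij hc hc2 hcV ha ha0 hE
  exact h.false_of hs

/-- **THEOREM SW, STEPS 1 and 2.** -/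
theorem sitFalse : SitFalse.{u} := fun _ _ _ _ _ _ _ _ _ h => h.false

end Cfsg.Agent.Omega.OM.Swap

end

section


/-!
# THEOREM SW (#18741), stage `-1`, over an abstract line `V` (box R, bb #24115)

`M ≥ K0, N_G(B)`, frame `LineV S Q V L W Z C A 2`.

* `exists_sit` : STEP 0: if some subgroup `H ≥ B` of characteristic 2 is not contained in `M`, then `Swap.Sit`;
* **`le_of_char2`** : every subgroup `H ≥ B` of characteristic 2 is contained in `M`;
* **`nonLoc`** : if `K0` normalises a nontrivial 2-group, then `O₂(K0) ≠ 1` and `M = N_G(O₂(K0))` contains `C_G(Z_J)`, all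
  FF-blocks over `B`, `N_G(B)`, `S` and every subgroup `H ≥ B` of characteristic 2.
-/

set_option autoImplicit false
set_option linter.unusedSectionVars false

namespace Cfsg.Agent.Omega.OM.SwapV.NegPlug

open Subgroup Cfsg Cfsg.Agent.ZN.ChoiceBase Cfsg.Agent.ZN.ChoiceSit
open Cfsg.Agent.ZN (jj zj bau zc zl o2)
open Cfsg.Agent.Omega.OM.Dich (K0 Fam)
open Cfsg.Agent.Omega.OM.BlkGen (FBlk)
open Cfsg.Agent.Omega.OM.SwapV.NegPair
open Cfsg.Agent.Omega.OM.Swap (MF Phi Sit SitFalse mm_two AA_two char2_cent mem_of_cj_bau_le zj_le_bau cj_mul_eq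
  cj_inv_eq)

universe u

variable {G : Type u} [Group G] [Finite G]

section line

variable {ι : Type} [Finite ι] {S : Sylow 2 G} {Q V : Subgroup G} {L W Z C A : ι → Subgroup G}

/-- A pair with `|Phi(T)|` maximal; `C_G(Z₀ z_j) ≤ M` for `j ∉ Phi(T)`. -/
theorem exists_max (h : LineV S Q V L W Z C A 2) (hFF : FFThm.Stmt.{u}) (hA : FFBr.AStmt.{u}) {M H : Subgroup G}
    (hK : K0 (S : Subgroup G) (FBlk (S : Subgroup G)) ≤ M) (hN : normalizer (bau (S : Subgroup G) : Set G) ≤ M)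
    (hB : bau (S : Subgroup G) ≤ H) (hc : H ⊓ centralizer (o2 H : Set G) ≤ o2 H) (hM : ¬ H ≤ M) :
    ∃ T F : Subgroup G, Pair S V M T F ∧ ∀ j, j ∉ Phi Z T →
      centralizer (((⨆ i ∈ Phi Z T, Z i) ⊔ Z j : Subgroup G) : Set G) ≤ M := by
  classical
  have hS2 : IsPGroup 2 (zj (S : Subgroup G)) := S.isPGroup'.to_le ((zj_le_bau _).trans (bau_le _))
  -- choose
  let s : Set ℕ := {n | ∃ T F : Subgroup G, Pair S V M T F ∧ (Phi Z T).ncard = n}
  have hs1 : s.Nonempty := by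
    obtain ⟨T, F, hp, -⟩ := exists_pair h hFF hA hK hN hB hc hM
    exact ⟨_, T, F, hp, rfl⟩
  have hs2 : s.Finite := by
    refine (Set.finite_Iic (Nat.card ι)).subset ?_
    rintro n ⟨T, F, -, rfl⟩
    rw [Set.mem_Iic, ← Set.ncard_univ]
    exact Set.ncard_le_ncard (Set.subset_univ _)
  obtain ⟨n, hn⟩ := hs2.exists_maximal hs1
  obtain ⟨T, F, hp, hcard⟩ := hn.prop
  refine ⟨T, F, hp, fun j hj => ?_⟩
  by_contra hcon
  set X : Subgroup G := (⨆ i ∈ Phi Z T, Z i) ⊔ Z j with hX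
  have hXJ : X ≤ zj (S : Subgroup G) :=
    sup_le (iSup_le fun i => iSup_le fun _ => h.fr.Z_le i) (h.fr.Z_le j)
  have hX1 : X ≠ ⊥ := by
    intro e
    obtain ⟨z, hz, hz1⟩ := Z_ne h j
    have h1 : z ∈ X := mem_sup_right hz
    rw [e, mem_bot] at h1
    exact hz1 h1
  have hBX : bau (S : Subgroup G) ≤ centralizer (X : Set G) :=
    (Dich.bau_le_cent _).trans (centralizer_le (by exact_mod_cast hXJ))
  obtain ⟨T', F', hp', hle⟩ := exists_pair h hFF hA hK hN hBX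
    (char2_cent h.ch (hS2.to_le hXJ) hX1) hcon
  have hfix : ∀ i, Z i ≤ X → i ∈ Phi Z T' := by
    intro i hi t ht
    have h1 := hle (hp'.syl.1 ht)
    refine cj_eq_of_mem_normalizer (centralizer_le_normalizer _ ?_)
    exact centralizer_le (by exact_mod_cast hi) h1
  have hsub : insert j (Phi Z T) ⊆ Phi Z T' := by
    rintro i (rfl | hi)
    · exact hfix _ le_sup_right
    · exact hfix _ (le_sup_of_le_left (le_iSup₂ (f := fun i (_ : i ∈ Phi Z T) => Z i) i hi))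
  have h2 : n + 1 ≤ (Phi Z T').ncard := by
    rw [← hcard, ← Set.ncard_insert_of_notMem hj (Set.toFinite _)]
    exact Set.ncard_le_ncard hsub (Set.toFinite _)
  have h3 : (Phi Z T').ncard ≤ n := hn.le_of_ge ⟨T', F', hp', rfl⟩ (by show n ≤ (Phi Z T').ncard; omega)
  omega

/-- `V` commutes with its conjugates under `F` if `V ≤ O₂(F)`, `B ≤ T`. -/
theorem comm_of_pair (h : LineV S Q V L W Z C A 2) {M T F : Subgroup G} (hp : Pair S V M T F) {f : G} (hf : f ∈ F)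
    {x y : G} (hx : x ∈ V) (hy : y ∈ V) :
    x * (f * y * f⁻¹) = f * y * f⁻¹ * x := by
  have hV := hp.VO
  have hO : o2 F ≤ T := o2_le_syl hp.syl
  have hcO : cj f (o2 F) = o2 F := cj_eq_of_mem_normalizer (le_normalizer_o2 F hf)
  refine h.nff T hp.syl.2.1 hp.BT f ?_ ?_ x hx _ ⟨y, hy, rfl⟩
  · have := cj_mono f hV
    rw [hcO] at this
    exact this.trans hO
  · have := cj_mono f hO
    rw [hcO] at this
    exact hV.trans this

/-- **STEP 0.** -/
theorem exists_sit (h : LineV S Q V L W Z C A 2) (hmf : MF (S : Subgroup G) L W Z) (hFF : FFThm.Stmt.{u})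
    (hA : FFBr.AStmt.{u}) {M H : Subgroup G}
    (hK : K0 (S : Subgroup G) (FBlk (S : Subgroup G)) ≤ M) (hN : normalizer (bau (S : Subgroup G) : Set G) ≤ M)
    (hB : bau (S : Subgroup G) ≤ H) (hc : H ⊓ centralizer (o2 H : Set G) ≤ o2 H) (hM : ¬ H ≤ M) :
    ∃ (T F F₀ : Subgroup G) (κ : Type) (U : κ → Subgroup G) (z : κ → G), Sit F T F₀ U z := by
  classical
  obtain ⟨T, F, hp, hcen⟩ := exists_max h hFF hA hK hN hB hc hM
  have hD : centralizer (zj (S : Subgroup G) : Set G) ≤ M := Dich.cent_le_K0.trans hK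
  have hSM : (S : Subgroup G) ≤ M := (Line.S_le S).trans hN
  have hLM : ∀ i, L i ≤ M := fun i => (Dich.blk_le_K0 (h.fblk i)).trans hK
  have hTN : T ≤ normalizer (bau (S : Subgroup G) : Set G) := Dich.two_le S hp.syl.2.1 hp.BT
  have hTM : T ≤ M := hTN.trans hN
  have hO : o2 F ≤ T := o2_le_syl hp.syl
  have hON : o2 F ≤ normalizer (bau (S : Subgroup G) : Set G) := hO.trans hTN
  have hTF : T ≤ F := hp.syl.1
  choose z hz hz1 using Z_ne h
  -- an index moved by `O₂(F)`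
  obtain ⟨i₀, o₀, ho₀, hmv⟩ : ∃ i, ∃ o ∈ o2 F, cj o (Z i) ≠ Z i := by
    by_contra hcon
    push Not at hcon
    apply hp.nM
    have h1 : zj (S : Subgroup G) ≤ centralizer (F : Set G) := by
      intro x hx
      refine hp.fix ⟨hx, mem_centralizer_iff.2 fun o ho => ?_⟩
      refine comm_of_supp h (hON ho) hx fun i j e => ?_
      rw [hcon i o ho] at e
      rw [Z_inj h e]
    exact (le_centralizer_iff.1 h1).trans hD
  -- its orbit
  set r : Set ι := {j | ∃ o ∈ o2 F, cj o (Z i₀) = Z j} with hr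
  have hrO : ∀ o ∈ o2 F, ∀ i j, cj o (Z i) = Z j → (i ∈ r ↔ j ∈ r) := by
    intro o ho i j e
    constructor
    · rintro ⟨o', ho', e'⟩
      exact ⟨o * o', mul_mem ho ho', cj_mul_eq e' e⟩
    · rintro ⟨o', ho', e'⟩
      exact ⟨o⁻¹ * o', mul_mem (inv_mem ho) ho', cj_mul_eq e' (cj_inv_eq e)⟩
  have hi₀ : i₀ ∈ r := ⟨1, one_mem _, cj_one _⟩
  obtain ⟨j₀, hj₀, -⟩ := perm h (hON ho₀) i₀
  have hj₀r : j₀ ∈ r := ⟨o₀, ho₀, hj₀⟩
  have hne₀ : i₀ ≠ j₀ := by
    rintro rfl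
    exact hmv hj₀
  -- elements of `Z_J` with support `r` are centralised by `F`
  have hsuppF : ∀ x ∈ zj (S : Subgroup G), (∀ i, x ∈ C i ↔ i ∉ r) → ∀ f ∈ F, f * x = x * f := by
    intro x hx hxs f hf
    refine mem_centralizer_iff.1 (hp.fix ⟨hx, mem_centralizer_iff.2 fun o ho => ?_⟩) f hf
    refine comm_of_supp h (hON ho) hx fun i j e => ?_
    rw [hxs i, hxs j, hrO o ho i j e]
  obtain ⟨xr, hxr, hxrs⟩ := exists_supp h r
  -- `T` stabilises `r`
  have hrT : ∀ t ∈ T, ∀ i j, cj t (Z i) = Z j → i ∈ r → j ∈ r := by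
    intro t ht i j e hi
    by_contra hj
    have h1 := (supp_cj h (hTN ht) e hxr).1
    have h2 := hsuppF xr hxr hxrs t (hTF ht)
    have h3 : t * xr * t⁻¹ = xr := by rw [h2]; group
    rw [h3] at h1
    exact (hxrs i).1 (h1 ((hxrs j).2 hj)) hi
  -- `r` and `Phi(T)` are disjoint
  have hrPhi : ∀ j ∈ r, j ∉ Phi Z T := by
    rintro j ⟨o, ho, e⟩ hj
    apply hmv
    have h1 := hj (o * o₀ * o⁻¹) (hO (mul_mem (mul_mem ho ho₀) (inv_mem ho)))
    rw [← e, cj_cj] at h1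
    have h2 : cj o⁻¹ (cj (o * o₀ * o⁻¹ * o) (Z i₀)) = cj o⁻¹ (cj o (Z i₀)) := by rw [h1]
    rw [cj_cj, cj_inv_cj] at h2
    have e2 : o⁻¹ * (o * o₀ * o⁻¹ * o) = o₀ := by group
    rwa [e2] at h2
  -- the group `Z₀`
  set Z₀ : Subgroup G := ⨆ i ∈ Phi Z T, Z i with hZ₀
  have hZ₀J : Z₀ ≤ zj (S : Subgroup G) := iSup_le fun i => iSup_le fun _ => h.fr.Z_le i
  have hFZ₀ : F ≤ centralizer (Z₀ : Set G) := by
    rw [le_centralizer_iff]
    refine iSup_le fun i => iSup_le fun hi x hx => ?_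
    refine hp.fix ⟨h.fr.Z_le i hx, mem_centralizer_iff.2 fun o ho => ?_⟩
    exact cent_of_cj h (hi o (hO ho)) hx
  have hBZ₀ : bau (S : Subgroup G) ≤ centralizer (Z₀ : Set G) :=
    (Dich.bau_le_cent _).trans (centralizer_le (by exact_mod_cast hZ₀J))
  have hLZ₀ : ∀ j ∈ r, L j ≤ centralizer (Z₀ : Set G) := by
    intro j hj
    rw [le_centralizer_iff]
    refine iSup_le fun i => iSup_le fun hi x hx => ?_
    rw [mem_centralizer_iff]
    intro l hl
    have hij : j ≠ i := by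
      rintro rfl
      exact hrPhi _ hj hi
    exact h.fr.LC j l hl x (h.fr.Z_le i hx) (Z_C h hij hx)
  -- (TI)
  have hti : ∀ i ∈ r, ∀ x ∈ W i, x ≠ 1 → ∀ f ∈ F, x ∈ cj f (⨆ j ∈ r, W j) → f ∈ M := by
    intro i hi x hx hx1 f hf hxf
    obtain ⟨l, hl, hxl⟩ := UniPlus.cover_two (UniPlus.nb h.fr i) hx
    rw [mem_cj] at hxl hxf
    -- `C_G(Z₀ x) ≤ M`
    have hcx : ∀ u, u ∈ centralizer (Z₀ : Set G) → u * x = x * u → u ∈ M := by
      intro u hu hux
      have h1 : l⁻¹ * u * l ∈ M := by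
        refine hcen i (hrPhi i hi) ?_
        rw [mem_centralizer_iff]
        intro y hy
        have h2 : ((⨆ i ∈ Phi Z T, Z i) ⊔ Z i : Subgroup G) ≤ centralizer ({l⁻¹ * u * l} : Set G) := by
          refine sup_le ?_ fun y hy => ?_
          · have h3 : l⁻¹ * u * l ∈ centralizer (Z₀ : Set G) :=
              mul_mem (mul_mem (inv_mem (hLZ₀ i hi hl)) hu) (hLZ₀ i hi hl)
            intro y hy
            rw [mem_centralizer_singleton_iff]
            exact mem_centralizer_iff.1 h3 y hy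
          · rw [mem_centralizer_singleton_iff]
            by_cases hy1 : y = 1
            · rw [hy1]; simp
            have h3 : l⁻¹ * x * l ≠ 1 := fun h4 => hx1 (by
              have h5 := congrArg (fun t => l * t * l⁻¹) h4
              simpa [mul_assoc] using h5)
            have h4 := Z_eq h hy hxl hy1 h3
            rw [h4]
            have h5 := congrArg (fun t => l⁻¹ * t * l) hux
            simpa [mul_assoc] using h5.symm
        exact mem_centralizer_singleton_iff.1 (h2 hy)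
      have h2 := mul_mem (mul_mem (hLM i hl) h1) (inv_mem (hLM i hl))
      have e : l * (l⁻¹ * u * l) * l⁻¹ = u := by group
      rwa [e] at h2
    obtain ⟨m, hm, hmx⟩ := hmf.conj r _ hxf
    have hmM : m ∈ M := (iSup₂_le fun i (_ : i ∈ r) => hLM i : (⨆ i ∈ r, L i) ≤ M) hm
    have hmZ : m ∈ centralizer (Z₀ : Set G) :=
      (iSup₂_le fun i (hi : i ∈ r) => hLZ₀ i hi : (⨆ i ∈ r, L i) ≤ centralizer (Z₀ : Set G)) hm
    have hg : f * m⁻¹ ∈ M := by
      refine mem_of_cj_bau_le S hSM hN ?_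
      rintro _ ⟨b, hb, rfl⟩
      refine hcx _ ?_ ?_
      · have hgZ : f * m⁻¹ ∈ centralizer (Z₀ : Set G) := mul_mem (hFZ₀ hf) (inv_mem hmZ)
        exact mul_mem (mul_mem hgZ (hBZ₀ hb)) (inv_mem hgZ)
      · have h1 := (mem_bau.1 hb).2 _ hmx
        change (f * m⁻¹) * b * (f * m⁻¹)⁻¹ * x = x * ((f * m⁻¹) * b * (f * m⁻¹)⁻¹)
        have h2 := congrArg (fun t => (f * m⁻¹) * t * (f * m⁻¹)⁻¹) h1
        have e1 : (f * m⁻¹) * (m * (f⁻¹ * x * f) * m⁻¹ * b) * (f * m⁻¹)⁻¹ =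
          x * ((f * m⁻¹) * b * (f * m⁻¹)⁻¹) := by group
        have e2 : (f * m⁻¹) * (b * (m * (f⁻¹ * x * f) * m⁻¹)) * (f * m⁻¹)⁻¹ =
          (f * m⁻¹) * b * (f * m⁻¹)⁻¹ * x := by group
        have h3 : (f * m⁻¹) * (m * (f⁻¹ * x * f) * m⁻¹ * b) * (f * m⁻¹)⁻¹ =
            (f * m⁻¹) * (b * (m * (f⁻¹ * x * f) * m⁻¹)) * (f * m⁻¹)⁻¹ := by
          exact h2
        rw [e1, e2] at h3
        exact h3.symm
    have h3 := mul_mem hg hmM
    have e : f * m⁻¹ * m = f := by group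
    rwa [e] at h3
  have hsup : (⨆ j : r, W j) = ⨆ j ∈ r, W j := iSup_subtype' (f := fun j (_ : j ∈ r) => W j) |>.symm
  have hWV : ∀ i, W i ≤ V := h.fr.WV
  refine ⟨T, F, F ⊓ M, r, fun i => W i, fun i => z i, ?_⟩
  refine
    { syl := hp.syl
      TF₀ := le_inf hTF hTM
      F₀F := lt_of_le_of_ne inf_le_left fun e => hp.nM (inf_eq_left.1 e)
      max := fun K hTK hKF => le_inf hKF.le (hp.min K hTK hKF)
      nJ := ?_
      fin := inferInstance
      two := ⟨⟨i₀, hi₀⟩, ⟨j₀, hj₀r⟩, fun e => hne₀ (congrArg Subtype.val e)⟩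
      card := fun i => by rw [(h.fr.blk i).card, h.fr.cardZ]
      zV := fun i => Z_W h _ (hz i)
      z1 := fun i => hz1 i
      VO := fun i => (hWV i).trans hp.VO
      sq := fun i x hx => by
        rw [← pow_two]
        exact SQ1.Bau.elem_sq h.fr.el x (hWV i hx)
      comm := fun f hf i j x hx y hy => comm_of_pair h hp hf (hWV i hx) (hWV j hy)
      ind := ?_
      perm := ?_
      tr := ?_
      act := fun X hX a ha i x hx => hmf.act X (AA_two S hp.syl.2.1 hp.BT hX) a ha i x hx (z i) (hz i) (hz1 i)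
      hat := ?_
      mov := ?_
      zc := ?_
      ti := ?_ }
  · by_contra hcon
    push Not at hcon
    apply hp.nJ
    rw [← LemmaK.Main.jj_eq S hp.syl.2.1 hp.BT, Cfsg.Agent.ZN.ChoiceBase.jj_eq]
    exact sSup_le hcon
  · rintro ⟨i, hi⟩ x hx hx'
    have h1 : (⨆ j : r, ⨆ _ : j ≠ ⟨i, hi⟩, W j) ≤ C i := by
      refine iSup_le fun j => iSup_le fun hj => ?_
      exact h.fr.WjC i j fun e => hj (Subtype.ext e.symm)
    have h2 : x ∈ W i ⊓ C i := mem_inf.2 ⟨hx, h1 hx'⟩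
    rwa [h.fr.dir i, mem_bot] at h2
  · rintro t ht ⟨i, hi⟩
    obtain ⟨j, h1, h2, -⟩ := perm h (hTN ht) i
    exact ⟨⟨j, hrT t ht i j h1 hi⟩, h2, conj_gen h h1 (hz i) (hz1 i) (hz j) (hz1 j)⟩
  · rintro ⟨i, o, ho, e⟩ ⟨j, o', ho', e'⟩
    refine ⟨o' * o⁻¹, mul_mem ho' (inv_mem ho), ?_⟩
    exact W_cj h (hON (mul_mem ho' (inv_mem ho))) (cj_mul_eq (cj_inv_eq e) e')
  · rintro X hX ⟨i, hi⟩ hmv'
    obtain ⟨a, ha, h1, h2⟩ := hmf.hat X (AA_two S hp.syl.2.1 hp.BT hX) i hmv'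
    exact ⟨a, ha, h1, fun j hj x hx => h2 j (fun e => hj (Subtype.ext e)) x hx⟩
  · rintro ⟨i, hi⟩
    have h1 : A i ∈ AA T := by
      rw [mem_AA_iff]
      refine ⟨h.fr.Ael i, (h.fr.AB i).trans hp.BT, ?_⟩
      rw [mm_two S hp.syl.2.1 hp.BT, h.fr.Am i]
    have h2 := h.fr.Ane i
    push Not at h2
    obtain ⟨a, ha, v, hv, hne⟩ := h2
    exact ⟨A i, h1, a, ha, v, hv, hne⟩
  · rintro ⟨i, hi⟩ ⟨j, hj⟩ hij hall f hf
    have hij' : i ≠ j := fun e => hij (Subtype.ext e)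
    have hall' : ∀ k ∈ r, k = i ∨ k = j := by
      intro k hk
      rcases hall ⟨k, hk⟩ with e | e
      · exact Or.inl (congrArg Subtype.val e)
      · exact Or.inr (congrArg Subtype.val e)
    refine hsuppF (z i * z j) (mul_mem (h.fr.Z_le i (hz i)) (h.fr.Z_le j (hz j))) (fun k => ?_) f hf
    by_cases hki : k = i
    · subst hki
      rw [Subgroup.mul_mem_cancel_right _ (Z_C h hij' (hz j))]
      exact ⟨fun h1 => absurd h1 (not_mem_C h (hz k) (hz1 k)), fun h1 => absurd hi h1⟩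
    · by_cases hkj : k = j
      · subst hkj
        rw [Subgroup.mul_mem_cancel_left _ (Z_C h hki (hz i))]
        exact ⟨fun h1 => absurd h1 (not_mem_C h (hz k) (hz1 k)), fun h1 => absurd hj h1⟩
      · refine ⟨fun _ hk => ?_, fun _ => mul_mem (Z_C h hki (hz i)) (Z_C h hkj (hz j))⟩
        rcases hall' k hk with e | e
        · exact hki e
        · exact hkj e
  · rintro ⟨i, hi⟩ x hx hx1 f hf hxf
    rw [hsup] at hxf
    exact mem_inf.2 ⟨hf, hti i hi x hx hx1 f hf hxf⟩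

/-- **THEOREM SW**: every subgroup of characteristic 2 over `B` is contained in every `M ≥ K0, N_G(B)`. -/
theorem le_of_char2' (hs : SitFalse.{u}) (h : LineV S Q V L W Z C A 2) (hmf : MF (S : Subgroup G) L W Z)
    (hFF : FFThm.Stmt.{u}) (hA : FFBr.AStmt.{u}) {M H : Subgroup G}
    (hK : K0 (S : Subgroup G) (FBlk (S : Subgroup G)) ≤ M) (hN : normalizer (bau (S : Subgroup G) : Set G) ≤ M)
    (hB : bau (S : Subgroup G) ≤ H) (hc : H ⊓ centralizer (o2 H : Set G) ≤ o2 H) : H ≤ M := by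
  by_contra hM
  obtain ⟨T, F, F₀, κ, U, z, hS⟩ := exists_sit h hmf hFF hA hK hN hB hc hM
  exact hs G F T F₀ κ U z hS

/-- **THEOREM SW** -/
theorem le_of_char2 (h : LineV S Q V L W Z C A 2) (hmf : MF (S : Subgroup G) L W Z)
    (hFF : FFThm.Stmt.{u}) (hA : FFBr.AStmt.{u}) {M H : Subgroup G}
    (hK : K0 (S : Subgroup G) (FBlk (S : Subgroup G)) ≤ M) (hN : normalizer (bau (S : Subgroup G) : Set G) ≤ M)
    (hB : bau (S : Subgroup G) ≤ H) (hc : H ⊓ centralizer (o2 H : Set G) ≤ o2 H) : H ≤ M :=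
  le_of_char2' Swap.sitFalse h hmf hFF hA hK hN hB hc

/-- **(Om)**: if `K0` normalises a nontrivial 2-group, then `M = N_G(O₂(K0))` is local and contains everything of
characteristic 2 over `B`. -/
theorem nonLoc (h : LineV S Q V L W Z C A 2) (hmf : MF (S : Subgroup G) L W Z)
    (hFF : FFThm.Stmt.{u}) (hA : FFBr.AStmt.{u}) {R : Subgroup G} (hR : IsPGroup 2 R) (hR1 : R ≠ ⊥)
    (hRK : K0 (S : Subgroup G) (FBlk (S : Subgroup G)) ≤ normalizer (R : Set G)) :
    ∃ M : Subgroup G, M = normalizer (o2 (K0 (S : Subgroup G) (FBlk (S : Subgroup G))) : Set G) ∧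
      o2 (K0 (S : Subgroup G) (FBlk (S : Subgroup G))) ≠ ⊥ ∧
      o2 (K0 (S : Subgroup G) (FBlk (S : Subgroup G))) ≤ bau (S : Subgroup G) ∧
      K0 (S : Subgroup G) (FBlk (S : Subgroup G)) ≤ M ∧
      centralizer (zj (S : Subgroup G) : Set G) ≤ M ∧ (∀ L V, FBlk (S : Subgroup G) L V → L ≤ M) ∧
      normalizer (bau (S : Subgroup G) : Set G) ≤ M ∧ (S : Subgroup G) ≤ M ∧
      ∀ H : Subgroup G, bau (S : Subgroup G) ≤ H → H ⊓ centralizer (o2 H : Set G) ≤ o2 H → H ≤ M := by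
  obtain ⟨h1, h2, h3⟩ := h.fam.dich hR hR1 hRK
  have h4 : K0 (S : Subgroup G) (FBlk (S : Subgroup G)) ≤
      normalizer (o2 (K0 (S : Subgroup G) (FBlk (S : Subgroup G))) : Set G) := le_sup_left.trans h3
  have h5 : normalizer (bau (S : Subgroup G) : Set G) ≤
      normalizer (o2 (K0 (S : Subgroup G) (FBlk (S : Subgroup G))) : Set G) := le_sup_right.trans h3
  exact ⟨_, rfl, h1, h2, h4, Dich.cent_le_K0.trans h4, fun L V hL => (Dich.blk_le_K0 hL).trans h4, h5,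
    (Line.S_le S).trans h5, fun H hB hc => le_of_char2 h hmf hFF hA h4 h5 hB hc⟩

/-- **(Om) for local subgroups**: the 2-local subgroups over `B` are contained in `M`. -/
theorem nonLoc_loc (h : LineV S Q V L W Z C A 2) (hmf : MF (S : Subgroup G) L W Z)
    (hFF : FFThm.Stmt.{u}) (hA : FFBr.AStmt.{u}) {R : Subgroup G} (hR : IsPGroup 2 R) (hR1 : R ≠ ⊥)
    (hRK : K0 (S : Subgroup G) (FBlk (S : Subgroup G)) ≤ normalizer (R : Set G)) {H : Subgroup G}
    (hB : bau (S : Subgroup G) ≤ H) (ho : o2 H ≠ ⊥) :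
    H ≤ normalizer (o2 (K0 (S : Subgroup G) (FBlk (S : Subgroup G))) : Set G) := by
  obtain ⟨M, rfl, -, -, -, -, -, -, -, hall⟩ := nonLoc h hmf hFF hA hR hR1 hRK
  have h1 : normalizer (o2 H : Set G) ⊓ centralizer (o2 (normalizer (o2 H : Set G)) : Set G) ≤
      o2 (normalizer (o2 H : Set G)) := self_cent h.ch ⟨o2 H, isPGroup_o2 H, ho, rfl⟩
  exact (le_normalizer_o2 H).trans (hall _ (hB.trans (le_normalizer_o2 H)) h1)

end line

end Cfsg.Agent.Omega.OM.SwapV.NegPlug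

end

end
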